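import Mathlib
import Groth.Agent.Lib.Helper18.FlK2
import Groth.Agent.Lib27.FibInj.UnivInj

/-!
# The kernel of a surjection of finitely presented modules onto a flat one is finitely presented

`D` a finitely presented `A`-algebra, `π : G → H` a surjection of finitely presented `D`-modules
with `H` flat over `A`.  Then `ker π` is a finitely presented `D`-module
(EGA IV 11.3.9.1 in ring form).
-/

set_option autoImplicit false
set_option linter.style.haveILetI false
set_option linter.unusedSectionVars false

open TensorProduct Function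

universe u

namespace Groth.Agent.Lib27.KerFP

section Schanuel

variable {D : Type*} [CommRing D] {G G' H : Type*} [AddCommGroup G] [Module D G]
  [AddCommGroup G'] [Module D G'] [AddCommGroup H] [Module D H]

/-- Schanuel-type transfer: if one surjection from a projective module onto `H` has a finitely
presented kernel, then every surjection from a finitely presented module onto `H` does. -/
theorem finitePresentation_ker_of_ker (π : G →ₗ[D] H) (hπ : Surjective π)
    (π' : G' →ₗ[D] H) (hπ' : Surjective π')
    [Module.FinitePresentation D G] [Module.Projective D G']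
    [Module.FinitePresentation D (LinearMap.ker π')] :
    Module.FinitePresentation D (LinearMap.ker π) := by
  obtain ⟨E, hEdef⟩ : ∃ E : Submodule D (G × G'), E =
      LinearMap.ker (π.comp (LinearMap.fst D G G') - π'.comp (LinearMap.snd D G G')) := ⟨_, rfl⟩
  have hE : ∀ x : G × G', x ∈ E ↔ π x.1 = π' x.2 := by
    intro x
    rw [hEdef, LinearMap.mem_ker, LinearMap.sub_apply, sub_eq_zero]
    rfl
  obtain ⟨p1, hp1def⟩ : ∃ p1 : E →ₗ[D] G, p1 = (LinearMap.fst D G G').comp E.subtype := ⟨_, rfl⟩
  obtain ⟨p2, hp2def⟩ : ∃ p2 : E →ₗ[D] G', p2 = (LinearMap.snd D G G').comp E.subtype := ⟨_, rfl⟩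
  have hp1 : Surjective p1 := by
    intro g
    obtain ⟨g', hg'⟩ := hπ' (π g)
    exact ⟨⟨(g, g'), (hE _).2 hg'.symm⟩, by rw [hp1def]; rfl⟩
  have hp2 : Surjective p2 := by
    intro g'
    obtain ⟨g, hg⟩ := hπ (π' g')
    exact ⟨⟨(g, g'), (hE _).2 hg⟩, by rw [hp2def]; rfl⟩
  -- the kernel of `p1`
  let i : LinearMap.ker π' →ₗ[D] E :=
    LinearMap.codRestrict E ((LinearMap.inr D G G').comp (LinearMap.ker π').subtype) (by
      intro k
      rw [hE]
      change π 0 = π' k.1
      rw [map_zero, LinearMap.mem_ker.mp k.2])
  have hi : Injective i := by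
    intro k₁ k₂ h
    have := congrArg (fun x : E => x.1.2) h
    exact Subtype.ext this
  have hker1 : LinearMap.range i = LinearMap.ker p1 := by
    ext x
    constructor
    · rintro ⟨k, rfl⟩
      rw [LinearMap.mem_ker, hp1def]
      rfl
    · intro hx
      rw [LinearMap.mem_ker, hp1def] at hx
      have hx1 : x.1.1 = 0 := hx
      have hx2 : π' x.1.2 = 0 := by
        rw [← (hE x.1).1 x.2, hx1, map_zero]
      refine ⟨⟨x.1.2, hx2⟩, Subtype.ext ?_⟩
      change ((0 : G), x.1.2) = x.1
      rw [← hx1]
  haveI : Module.FinitePresentation D (LinearMap.ker p1) := by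
    have e : LinearMap.ker π' ≃ₗ[D] LinearMap.ker p1 :=
      (LinearEquiv.ofInjective i hi).trans (LinearEquiv.ofEq _ _ hker1)
    exact Module.FinitePresentation.of_equiv (R := D) (M := LinearMap.ker π')
      (N := LinearMap.ker p1) e
  haveI : Module.FinitePresentation D E := Module.finitePresentation_of_ker p1 hp1
  -- the kernel of `p2`
  let f : LinearMap.ker π →ₗ[D] E :=
    LinearMap.codRestrict E ((LinearMap.inl D G G').comp (LinearMap.ker π).subtype) (by
      intro k
      rw [hE]
      change π k.1 = π' 0
      rw [map_zero, LinearMap.mem_ker.mp k.2])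
  have hf : Injective f := by
    intro k₁ k₂ h
    have := congrArg (fun x : E => x.1.1) h
    exact Subtype.ext this
  have hex : Function.Exact f p2 := by
    intro x
    constructor
    · intro hx
      rw [hp2def] at hx
      have hx2 : x.1.2 = 0 := hx
      have hx1 : π x.1.1 = 0 := by
        rw [(hE x.1).1 x.2, hx2, map_zero]
      refine ⟨⟨x.1.1, hx1⟩, Subtype.ext ?_⟩
      change (x.1.1, (0 : G')) = x.1
      rw [← hx2]
    · rintro ⟨k, rfl⟩
      rw [hp2def]
      rfl
  exact Module.finitePresentation_of_projective_of_exact f p2 hf hp2 hex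

end Schanuel

section Main

variable {A D : Type u} [CommRing A] [CommRing D] [Algebra A D] [Algebra.FinitePresentation A D]

/-- base change along a pushout square preserves injectivity of a map whose cokernel is flat over
the small base. -/
theorem baseChange_injective_of_isPushout {R₀ S₀ : Type*} [CommRing R₀] [CommRing S₀]
    [Algebra R₀ A] [Algebra R₀ S₀] [Algebra S₀ D] [Algebra R₀ D] [IsScalarTower R₀ A D]
    [IsScalarTower R₀ S₀ D] [Algebra.IsPushout R₀ A S₀ D]
    {K F : Type*} [AddCommGroup K] [Module S₀ K] [Module R₀ K] [IsScalarTower R₀ S₀ K]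
    [AddCommGroup F] [Module S₀ F] [Module R₀ F] [IsScalarTower R₀ S₀ F]
    (j : K →ₗ[S₀] F) (hj : Injective j)
    [Module.Flat R₀ (F ⧸ LinearMap.range (j.restrictScalars R₀))] :
    Injective (j.baseChange D) := by
  have hinj : Injective ((j.restrictScalars R₀).lTensor A) :=
    Groth.Agent.Lib27.FibInj.lTensor_injective_of_flat_coker (j.restrictScalars R₀) hj A
  have hnat : ∀ y : A ⊗[R₀] K,
      j.baseChange D ((Algebra.IsPushout.cancelBaseChange R₀ A S₀ D K).symm y) =
        (Algebra.IsPushout.cancelBaseChange R₀ A S₀ D F).symm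
          ((j.restrictScalars R₀).lTensor A y) := by
    intro y
    induction y with
    | zero => simp
    | add x y hx hy => simp only [map_add, hx, hy]
    | tmul a k =>
      rw [Algebra.IsPushout.cancelBaseChange_symm_tmul, LinearMap.baseChange_tmul,
        LinearMap.lTensor_tmul, Algebra.IsPushout.cancelBaseChange_symm_tmul]
      rfl
  rw [injective_iff_map_eq_zero]
  intro x hx
  obtain ⟨y, rfl⟩ := (Algebra.IsPushout.cancelBaseChange R₀ A S₀ D K).symm.surjective x
  rw [hnat, LinearEquiv.map_eq_zero_iff] at hx
  rw [(injective_iff_map_eq_zero _).mp hinj y hx, map_zero]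

/-- a flat finitely presented module over a finitely presented algebra admits a surjection from
a finite free module with finitely presented kernel. -/
theorem exists_free_presentation_ker_fp (H : Type u) [AddCommGroup H] [Module D H] [Module A H]
    [IsScalarTower A D H] [Module.FinitePresentation D H] [Module.Flat A H] :
    ∃ (G' : Type u) (_ : AddCommGroup G') (_ : Module D G') (_ : Module.Free D G')
      (_ : Module.Finite D G') (π' : G' →ₗ[D] H),
      Surjective π' ∧ Module.FinitePresentation D (LinearMap.ker π') := by
  classical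
  obtain ⟨R₀, _, _, S₀, _, _, _, _, _, _, M₀, _, _, _, _, _, _, f, hR₀, hS₀, hM₀, hflat₀, hpo,
    hbc⟩ := Groth.Agent.Lib.Helper18.Fl.exists_finiteType_int_model A D H
  haveI : IsNoetherianRing R₀ := Algebra.FiniteType.isNoetherianRing ℤ R₀
  haveI : IsNoetherianRing S₀ := Algebra.FiniteType.isNoetherianRing R₀ S₀
  obtain ⟨r, π₀, hπ₀⟩ := Module.Finite.exists_fin' S₀ M₀
  haveI : Module.FinitePresentation S₀ (LinearMap.ker π₀) :=
    Module.finitePresentation_of_finite S₀ _
  -- flatness of the cokernel of the inclusion of the kernel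
  have hrange : LinearMap.range ((LinearMap.ker π₀).subtype.restrictScalars R₀) =
      LinearMap.ker (π₀.restrictScalars R₀) := by
    ext x
    simp
  haveI : Module.Flat R₀ ((Fin r → S₀) ⧸
      LinearMap.range ((LinearMap.ker π₀).subtype.restrictScalars R₀)) :=
    Module.Flat.of_linearEquiv ((Submodule.quotEquivOfEq _ _ hrange).trans
      ((π₀.restrictScalars R₀).quotKerEquivOfSurjective hπ₀))
  have hinj : Injective ((LinearMap.ker π₀).subtype.baseChange D) :=
    baseChange_injective_of_isPushout (A := A) (D := D) (R₀ := R₀) (S₀ := S₀)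
      (LinearMap.ker π₀).subtype (Submodule.injective_subtype _)
  have hex : Function.Exact ((LinearMap.ker π₀).subtype.baseChange D) (π₀.baseChange D) :=
    lTensor_exact D π₀.exact_subtype_ker_map hπ₀
  refine ⟨D ⊗[S₀] (Fin r → S₀), inferInstance, inferInstance, inferInstance, inferInstance,
    hbc.equiv.toLinearMap ∘ₗ π₀.baseChange D, ?_, ?_⟩
  · exact hbc.equiv.surjective.comp (LinearMap.lTensor_surjective D hπ₀)
  · have hker : LinearMap.ker (hbc.equiv.toLinearMap ∘ₗ π₀.baseChange D) =
        LinearMap.range ((LinearMap.ker π₀).subtype.baseChange D) := by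
      rw [LinearEquiv.ker_comp, (LinearMap.exact_iff.mp hex)]
    have e : (D ⊗[S₀] LinearMap.ker π₀) ≃ₗ[D]
        LinearMap.ker (hbc.equiv.toLinearMap ∘ₗ π₀.baseChange D) :=
      (LinearEquiv.ofInjective _ hinj).trans (LinearEquiv.ofEq _ _ hker.symm)
    exact Module.FinitePresentation.of_equiv (R := D) (M := D ⊗[S₀] LinearMap.ker π₀)
      (N := LinearMap.ker (hbc.equiv.toLinearMap ∘ₗ π₀.baseChange D)) e

/-- **Kernel lemma**: the kernel of a surjection of finitely presented modules over a finitely
presented `A`-algebra onto an `A`-flat module is finitely presented. -/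
theorem finitePresentation_ker_of_flat {G H : Type u} [AddCommGroup G] [Module D G]
    [AddCommGroup H] [Module D H] [Module A H] [IsScalarTower A D H]
    [Module.FinitePresentation D G] [Module.FinitePresentation D H] [Module.Flat A H]
    (π : G →ₗ[D] H) (hπ : Surjective π) :
    Module.FinitePresentation D (LinearMap.ker π) := by
  obtain ⟨G', _, _, _, _, π', hπ', hK⟩ := exists_free_presentation_ker_fp (A := A) (D := D) H
  haveI := hK
  exact finitePresentation_ker_of_ker π hπ π' hπ'

end Main

end Groth.Agent.Lib27.KerFP
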