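import Mathlib
import Groth.Agent.Lib27.FibInj.RegSeq2
import Groth.Agent.Lib27.Flat.KerFP
import Groth.Agent.Lib.Helper18.FlI

/-!
# Slicing a flat finitely presented algebra by a fibrewise nonzerodivisor (ring core)
-/

set_option autoImplicit false
set_option linter.style.haveILetI false
set_option linter.unusedSectionVars false

open TensorProduct Function
open scoped Pointwise

universe u

namespace Groth.Agent.Lib27.Slice

open Groth.Agent.Lib27.FibInj Groth.Agent.Lib.Helper18.Fl

section Step

variable {A B : Type u} [CommRing A] [CommRing B] [Algebra A B] [Algebra.FinitePresentation A B]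
  (q : Ideal B) [q.IsPrime]

/-- variant of `step` with the fibre hypothesis in elementwise form. -/
lemma step_of_hyp (M : Type u) [AddCommGroup M] [Module B M] [Module A M]
    [IsScalarTower A B M] [Module.FinitePresentation B M]
    [Module.Flat A (LocalizedModule q.primeCompl M)] (r : B)
    (hu : ∀ x : M, (∃ s ∉ q, s • (LinearMap.lsmul B M r) x ∈
        (q.comap (algebraMap A B)) • (⊤ : Submodule A M)) →
      ∃ s ∉ q, s • x ∈ (q.comap (algebraMap A B)) • (⊤ : Submodule A M)) :
    IsSMulRegular (LocalizedModule q.primeCompl M) r ∧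
      Module.Flat A (LocalizedModule q.primeCompl (QuotSMulTop r M)) := by
  obtain ⟨hinj, hflat⟩ := fibInj_at_prime q (LinearMap.lsmul B M r) hu
  have hmap : ∀ y : LocalizedModule q.primeCompl M,
      LocalizedModule.map q.primeCompl (LinearMap.lsmul B M r) y = r • y := by
    intro y
    induction y using LocalizedModule.induction_on with
    | _ x s => rw [LocalizedModule.map_mk, LocalizedModule.smul'_mk, LinearMap.lsmul_apply]
  constructor
  · intro y₁ y₂ h
    apply hinj
    rw [hmap, hmap]
    exact h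
  · have hsurj : Surjective ((locMkQ q.primeCompl r M).restrictScalars A) :=
      locMkQ_surjective q.primeCompl r M
    have hker : LinearMap.ker ((locMkQ q.primeCompl r M).restrictScalars A) =
        LinearMap.range ((LocalizedModule.map q.primeCompl
          (LinearMap.lsmul B M r)).restrictScalars A) := by
      ext y
      have h1 : y ∈ LinearMap.ker (locMkQ q.primeCompl r M) ↔
          y ∈ r • (⊤ : Submodule B (LocalizedModule q.primeCompl M)) := by
        rw [ker_locMkQ]
      rw [LinearMap.mem_ker, LinearMap.restrictScalars_apply, ← LinearMap.mem_ker, h1,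
        Submodule.mem_smul_pointwise_iff_exists, LinearMap.mem_range]
      constructor
      · rintro ⟨y', -, rfl⟩
        exact ⟨y', hmap y'⟩
      · rintro ⟨y', rfl⟩
        exact ⟨y', trivial, (hmap y').symm⟩
    exact Module.Flat.of_linearEquiv
      (((Submodule.quotEquivOfEq _ _ hker.symm) ≪≫ₗ
        (LinearMap.quotKerEquivOfSurjective _ hsurj)).symm)

end Step

section Transfer

variable {A B : Type u} [CommRing A] [CommRing B] [Algebra A B]

/-- flatness of a localization, transferred to any model of it. -/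
theorem flat_of_isLocalization (T : Submonoid B) (Bg : Type*) [CommRing Bg] [Algebra B Bg]
    [Algebra A Bg] [IsScalarTower A B Bg] [IsLocalization T Bg]
    (h : Module.Flat A (LocalizedModule T B)) : Module.Flat A Bg := by
  haveI : IsLocalizedModule T (Algebra.linearMap B Bg) := inferInstance
  exact Module.Flat.of_linearEquiv
    ((IsLocalizedModule.iso T (Algebra.linearMap B Bg)).restrictScalars A).symm

/-- flatness of the localization of a quotient by a principal ideal. -/
theorem flat_quotient_of_isLocalization (T : Submonoid B) (Bg : Type*) [CommRing Bg]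
    [Algebra B Bg] [Algebra A Bg] [IsScalarTower A B Bg] [IsLocalization T Bg] (b : B)
    (h : Module.Flat A (LocalizedModule T (B ⧸ Ideal.span {b}))) :
    Module.Flat A (Bg ⧸ Ideal.span {algebraMap B Bg b}) := by
  haveI : IsLocalizedModule T (Algebra.linearMap B Bg) := inferInstance
  have hN : (Ideal.span {b} : Submodule B B).localized' Bg T (Algebra.linearMap B Bg) =
      Ideal.span {algebraMap B Bg b} := by
    rw [Ideal.span, Submodule.localized'_span, Set.image_singleton]
    rfl
  have e := (IsLocalizedModule.iso T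
    ((Ideal.span {b} : Submodule B B).toLocalizedQuotient' Bg T (Algebra.linearMap B Bg)))
  have e2 := e.restrictScalars A
  have e3 : (Bg ⧸ (Ideal.span {b} : Submodule B B).localized' Bg T (Algebra.linearMap B Bg))
      ≃ₗ[A] (Bg ⧸ Ideal.span {algebraMap B Bg b}) :=
    (Submodule.quotEquivOfEq _ _ hN).restrictScalars A
  exact Module.Flat.of_linearEquiv (e2.trans e3).symm

end Transfer

section Ann

variable {A D : Type u} [CommRing A] [CommRing D] [Algebra A D] [Algebra.FinitePresentation A D]

/-- if `D/b` is flat over `A` then the annihilator of `b` is a finitely generated ideal. -/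
theorem fg_ker_mul_of_flat_quotient (b : D) [Module.Flat A (D ⧸ Ideal.span {b})] :
    (LinearMap.ker (LinearMap.mul D D b)).FG := by
  obtain ⟨I, hI⟩ : ∃ I : Ideal D, I = Ideal.span {b} := ⟨_, rfl⟩
  haveI : Module.Flat A (D ⧸ I) := by rw [hI]; infer_instance
  have hπ : Surjective (Submodule.mkQ I) := Submodule.mkQ_surjective I
  haveI : Module.FinitePresentation D (D ⧸ I) := by
    refine Module.finitePresentation_of_surjective (Submodule.mkQ I) hπ ?_
    rw [Submodule.ker_mkQ, hI]
    exact Submodule.fg_span_singleton b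
  haveI : Module.FinitePresentation D (LinearMap.ker (Submodule.mkQ I)) :=
    Groth.Agent.Lib27.KerFP.finitePresentation_ker_of_flat (A := A) (Submodule.mkQ I) hπ
  let μ : D →ₗ[D] LinearMap.ker (Submodule.mkQ I) :=
    LinearMap.codRestrict _ (LinearMap.mul D D b) (by
      intro d
      rw [Submodule.ker_mkQ, hI, LinearMap.mul_apply']
      exact Ideal.mul_mem_right _ _ (Ideal.subset_span rfl))
  have hμ : Surjective μ := by
    rintro ⟨x, hx⟩
    rw [Submodule.ker_mkQ, hI, Ideal.mem_span_singleton'] at hx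
    obtain ⟨d, rfl⟩ := hx
    exact ⟨d, Subtype.ext (by change b * d = d * b; ring)⟩
  have := Module.FinitePresentation.fg_ker μ hμ
  rwa [LinearMap.ker_codRestrict] at this

end Ann

section Core

variable {A B : Type u} [CommRing A] [CommRing B] [Algebra A B]
  (q : Ideal B) [q.IsPrime]
  (L : Type u) [CommRing L] [Algebra B L] [Algebra A L] [IsScalarTower A B L]
  [IsLocalization.AtPrime L q]

lemma map_mem_of_mem_smul_top {y : B}
    (hy : y ∈ (q.comap (algebraMap A B)) • (⊤ : Submodule A B)) :
    algebraMap B L y ∈ Ideal.map (algebraMap A L) (q.comap (algebraMap A B)) := by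
  rw [Ideal.smul_top_eq_map] at hy
  have hy' : y ∈ Ideal.map (algebraMap A B) (q.comap (algebraMap A B)) := hy
  have := Ideal.mem_map_of_mem (algebraMap B L) hy'
  rwa [Ideal.map_map, ← IsScalarTower.algebraMap_eq] at this

lemma exists_smul_mem_of_map_mem {y : B}
    (hy : algebraMap B L y ∈ Ideal.map (algebraMap A L) (q.comap (algebraMap A B))) :
    ∃ t ∉ q, t • y ∈ (q.comap (algebraMap A B)) • (⊤ : Submodule A B) := by
  rw [IsScalarTower.algebraMap_eq A B L, ← Ideal.map_map,
    IsLocalization.mem_map_algebraMap_iff q.primeCompl L] at hy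
  obtain ⟨⟨i, t'⟩, h⟩ := hy
  rw [← map_mul, IsLocalization.eq_iff_exists q.primeCompl L] at h
  obtain ⟨c, hc⟩ := h
  refine ⟨(c : B) * (t' : B), (c * t').2, ?_⟩
  rw [Ideal.smul_top_eq_map, Submodule.restrictScalars_mem]
  have : ((c : B) * (t' : B)) • y = (c : B) * (i : B) := by
    rw [smul_eq_mul, ← hc]; ring
  rw [this]
  exact Ideal.mul_mem_left _ _ i.2

/-- basic open neighbourhood inside the flat locus of a finitely presented module. -/
lemma exists_basicOpen_flat [Algebra.FinitePresentation A B] (M : Type u) [AddCommGroup M]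
    [Module B M] [Module A M] [IsScalarTower A B M] [Module.FinitePresentation B M]
    (hq : Module.Flat A (LocalizedModule q.primeCompl M)) :
    ∃ g : B, g ∉ q ∧ ∀ (Q : Ideal B) [Q.IsPrime], g ∉ Q →
      Module.Flat A (LocalizedModule Q.primeCompl M) := by
  have hO := isOpen_flatLocus (R := A) (S := B) (M := M)
  have hmem : (⟨q, inferInstance⟩ : PrimeSpectrum B) ∈ {Q : PrimeSpectrum B |
      Module.Flat A (LocalizedModule Q.asIdeal.primeCompl M)} := hq
  obtain ⟨_, ⟨_, ⟨g, rfl⟩, rfl⟩, hqg, hsub⟩ :=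
    PrimeSpectrum.isBasis_basic_opens.exists_subset_of_mem_open hmem hO
  refine ⟨g, hqg, fun Q _ hQ => ?_⟩
  exact hsub (show (⟨Q, inferInstance⟩ : PrimeSpectrum B) ∈ PrimeSpectrum.basicOpen g from hQ)

lemma smul_top_eq_span (b : B) : (b • (⊤ : Submodule B B)) = Ideal.span {b} := by
  rw [← Submodule.ideal_span_singleton_smul, smul_eq_mul, Ideal.mul_top]

/-- multiplication by `b` is injective on `L` if it is on `LocalizedModule q.primeCompl B`. -/
lemma mul_eq_zero_of_isSMulRegular (b : B)
    (hb : IsSMulRegular (LocalizedModule q.primeCompl B) b) (y : L)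
    (hy : algebraMap B L b * y = 0) : y = 0 := by
  haveI : IsLocalizedModule q.primeCompl (Algebra.linearMap B L) := inferInstance
  have eL : LocalizedModule q.primeCompl B ≃ₗ[B] L :=
    IsLocalizedModule.iso q.primeCompl (Algebra.linearMap B L)
  obtain ⟨y', rfl⟩ := eL.surjective y
  have h1 : eL (b • y') = 0 := by
    rw [map_smul, Algebra.smul_def]
    exact hy
  have h2 : b • y' = 0 := by
    rwa [LinearEquiv.map_eq_zero_iff] at h1
  have h3 : y' = 0 := hb (h2.trans (smul_zero b).symm)
  rw [h3, map_zero]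

/-- Stage 1: a basic open neighbourhood on which `B` and `B/b` are flat, and on which `b` is
regular at `q`. -/
theorem exists_flat_nbhd [Algebra.FinitePresentation A B] [Module.Flat A L] (b : B)
    (s : q.primeCompl)
    (hreg : ∀ x : L, IsLocalization.mk' L b s * x ∈
        Ideal.map (algebraMap A L) (q.comap (algebraMap A B)) →
      x ∈ Ideal.map (algebraMap A L) (q.comap (algebraMap A B))) :
    IsSMulRegular (LocalizedModule q.primeCompl B) b ∧
    ∃ g : B, g ∉ q ∧ (∀ (Q : Ideal B) [Q.IsPrime], g ∉ Q →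
      Module.Flat A (LocalizedModule Q.primeCompl B)) ∧
      (∀ (Q : Ideal B) [Q.IsPrime], g ∉ Q →
        Module.Flat A (LocalizedModule Q.primeCompl (B ⧸ Ideal.span {b}))) := by
  classical
  haveI : IsLocalizedModule q.primeCompl (Algebra.linearMap B L) := inferInstance
  have eL : LocalizedModule q.primeCompl B ≃ₗ[B] L :=
    IsLocalizedModule.iso q.primeCompl (Algebra.linearMap B L)
  haveI hflatB : Module.Flat A (LocalizedModule q.primeCompl B) :=
    Module.Flat.of_linearEquiv (eL.restrictScalars A)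
  have hu : ∀ x : B, (∃ t ∉ q, t • (LinearMap.lsmul B B b) x ∈
        (q.comap (algebraMap A B)) • (⊤ : Submodule A B)) →
      ∃ t ∉ q, t • x ∈ (q.comap (algebraMap A B)) • (⊤ : Submodule A B) := by
    rintro x ⟨t, ht, hmem⟩
    have h1 := map_mem_of_mem_smul_top q L hmem
    have h2 : algebraMap B L (t • (LinearMap.lsmul B B b) x) =
        IsLocalization.mk' L b s * algebraMap B L ((s : B) * t * x) := by
      rw [LinearMap.lsmul_apply, smul_eq_mul, smul_eq_mul, map_mul, map_mul, map_mul, map_mul,
        ← IsLocalization.mk'_spec' L b s]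
      ring
    rw [h2] at h1
    obtain ⟨t', ht', hmem'⟩ := exists_smul_mem_of_map_mem q L (hreg _ h1)
    refine ⟨t' * ((s : B) * t), ?_, ?_⟩
    · exact (q.primeCompl.mul_mem ht' (q.primeCompl.mul_mem s.2 ht))
    · rw [smul_eq_mul] at hmem' ⊢
      have : t' * ((s : B) * t) * x = t' * ((s : B) * t * x) := by ring
      rw [this]
      exact hmem'
  obtain ⟨hregB, hflatQ⟩ := step_of_hyp q B b hu
  haveI : Module.FinitePresentation B (B ⧸ Ideal.span {b}) := by
    refine Module.finitePresentation_of_surjective (Submodule.mkQ _)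
      (Submodule.mkQ_surjective _) ?_
    rw [Submodule.ker_mkQ]
    exact Submodule.fg_span_singleton b
  have hflatQ' : Module.Flat A (LocalizedModule q.primeCompl (B ⧸ Ideal.span {b})) :=
    Module.Flat.of_linearEquiv
      ((locCongr q.primeCompl (Submodule.quotEquivOfEq _ _ (smul_top_eq_span b))).restrictScalars
        A).symm
  obtain ⟨g₁, hg₁, hU₁⟩ := exists_basicOpen_flat q B hflatB
  obtain ⟨g₂, hg₂, hU₂⟩ := exists_basicOpen_flat q (B ⧸ Ideal.span {b}) hflatQ'
  refine ⟨hregB, g₁ * g₂, q.primeCompl.mul_mem hg₁ hg₂, fun Q _ hQ => ?_, fun Q _ hQ => ?_⟩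
  · exact hU₁ Q (fun h => hQ (Ideal.mul_mem_right _ _ h))
  · exact hU₂ Q (fun h => hQ (Ideal.mul_mem_left _ _ h))

include L in
/-- Stage 2: spreading out the regularity of `b`. -/
theorem exists_kill [Algebra.FinitePresentation A B] (b g₀ : B) (hg₀ : g₀ ∉ q)
    (hU : ∀ (Q : Ideal B) [Q.IsPrime], g₀ ∉ Q →
      Module.Flat A (LocalizedModule Q.primeCompl (B ⧸ Ideal.span {b})))
    (hregB : IsSMulRegular (LocalizedModule q.primeCompl B) b) :
    ∃ g₃ : B, g₃ ∉ q ∧ ∀ c : B, b * c = 0 → ∃ m : ℕ, g₀ ^ m * (g₃ * c) = 0 := by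
  classical
  haveI : IsLocalRing L := IsLocalization.AtPrime.isLocalRing L q
  obtain ⟨D, hD⟩ : ∃ D : Type u, D = Localization.Away g₀ := ⟨_, rfl⟩
  -- work with `Localization.Away g₀` directly
  haveI : Algebra.FinitePresentation B (Localization.Away g₀) :=
    IsLocalization.Away.finitePresentation g₀
  haveI : Algebra.FinitePresentation A (Localization.Away g₀) :=
    Algebra.FinitePresentation.trans A B (Localization.Away g₀)
  have hflatT : Module.Flat A (LocalizedModule (Submonoid.powers g₀) (B ⧸ Ideal.span {b})) := by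
    rw [flat_localizedModule_iff_forall_prime]
    intro Q _ hQ
    exact hU Q (fun h => Set.disjoint_left.mp hQ h (Submonoid.mem_powers g₀))
  haveI hflatD : Module.Flat A (Localization.Away g₀ ⧸
      Ideal.span {algebraMap B (Localization.Away g₀) b}) :=
    flat_quotient_of_isLocalization (Submonoid.powers g₀) (Localization.Away g₀) b hflatT
  have hfg := fg_ker_mul_of_flat_quotient (A := A) (algebraMap B (Localization.Away g₀) b)
  -- the canonical map to `L`
  have hunit : IsUnit (algebraMap B L g₀) :=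
    IsLocalization.map_units L (⟨g₀, hg₀⟩ : q.primeCompl)
  obtain ⟨ψ₀, hψ₀⟩ : ∃ ψ₀ : Localization.Away g₀ →+* L,
      ∀ x : B, ψ₀ (algebraMap B (Localization.Away g₀) x) = algebraMap B L x :=
    ⟨IsLocalization.Away.lift g₀ hunit, fun x => IsLocalization.Away.lift_eq g₀ hunit x⟩
  obtain ⟨K, hK⟩ : ∃ K : Submodule (Localization.Away g₀) (Localization.Away g₀),
      K = LinearMap.ker (LinearMap.mul (Localization.Away g₀) (Localization.Away g₀)
        (algebraMap B (Localization.Away g₀) b)) := ⟨_, rfl⟩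
  rw [← hK] at hfg
  haveI : Module.Finite (Localization.Away g₀) K := Module.Finite.iff_fg.mpr hfg
  have hKmem : ∀ k : Localization.Away g₀, k ∈ K ↔
      algebraMap B (Localization.Away g₀) b * k = 0 := by
    intro k
    rw [hK, LinearMap.mem_ker, LinearMap.mul_apply']
  let qD : PrimeSpectrum (Localization.Away g₀) :=
    ⟨(IsLocalRing.maximalIdeal L).comap ψ₀, Ideal.comap_isPrime _ _⟩
  have hsupp : qD ∉ Module.support (Localization.Away g₀) K := by
    rw [Module.notMem_support_iff']
    rintro ⟨k, hk⟩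
    rw [hKmem] at hk
    obtain ⟨⟨c, t⟩, rfl⟩ := IsLocalization.mk'_surjective (Submonoid.powers g₀) k
    have h1 : algebraMap B L b * ψ₀ (IsLocalization.mk' (Localization.Away g₀) c t) = 0 := by
      rw [← hψ₀, ← map_mul, hk, map_zero]
    have h2 := mul_eq_zero_of_isSMulRegular q L b hregB _ h1
    have h3 : algebraMap B L c = 0 := by
      rw [← hψ₀, ← IsLocalization.mk'_spec (Localization.Away g₀) c t, map_mul, h2, zero_mul]
    rw [IsLocalization.map_eq_zero_iff q.primeCompl L] at h3
    obtain ⟨t', ht'⟩ := h3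
    refine ⟨algebraMap B (Localization.Away g₀) t', ?_, ?_⟩
    · change ¬ (ψ₀ (algebraMap B (Localization.Away g₀) t') ∈ IsLocalRing.maximalIdeal L)
      rw [hψ₀]
      intro hmem
      exact (IsLocalRing.mem_maximalIdeal _).mp hmem (IsLocalization.map_units L t')
    · apply Subtype.ext
      change algebraMap B (Localization.Away g₀) t' •
        IsLocalization.mk' (Localization.Away g₀) c t = 0
      rw [smul_eq_mul, IsLocalization.mul_mk'_eq_mk'_of_mul, ht', IsLocalization.mk'_zero]
  rw [Module.mem_support_iff_of_finite, SetLike.not_le_iff_exists] at hsupp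
  obtain ⟨f, hfann, hfq⟩ := hsupp
  obtain ⟨⟨g₃, t₃⟩, rfl⟩ := IsLocalization.mk'_surjective (Submonoid.powers g₀) f
  have hg₃unit : IsUnit (algebraMap B L g₃) := by
    have h1 : IsUnit (ψ₀ (IsLocalization.mk' (Localization.Away g₀) g₃ t₃)) := by
      by_contra hcon
      exact hfq ((IsLocalRing.mem_maximalIdeal _).mpr hcon)
    have h2 : algebraMap B L g₃ = ψ₀ (IsLocalization.mk' (Localization.Away g₀) g₃ t₃) *
        algebraMap B L (t₃ : B) := by
      rw [← hψ₀ (t₃ : B), ← map_mul, IsLocalization.mk'_spec, hψ₀]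
    rw [h2]
    obtain ⟨m, hm⟩ := t₃.2
    refine h1.mul ?_
    rw [← hm, map_pow]
    exact hunit.pow m
  have hg₃ : g₃ ∉ q := by
    intro hmem
    exact (IsLocalization.AtPrime.isUnit_to_map_iff L q g₃).mp hg₃unit hmem
  refine ⟨g₃, hg₃, fun c hc => ?_⟩
  have hcK : algebraMap B (Localization.Away g₀) c ∈ K := by
    rw [hKmem, ← map_mul, hc, map_zero]
  have h1 : IsLocalization.mk' (Localization.Away g₀) g₃ t₃ •
      (⟨algebraMap B (Localization.Away g₀) c, hcK⟩ : K) = 0 :=
    Module.mem_annihilator.mp hfann _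
  have h2 : IsLocalization.mk' (Localization.Away g₀) g₃ t₃ *
      algebraMap B (Localization.Away g₀) c = 0 := congrArg Subtype.val h1
  have h3 : algebraMap B (Localization.Away g₀) (g₃ * c) = 0 := by
    rw [map_mul, ← IsLocalization.mk'_spec (Localization.Away g₀) g₃ t₃, mul_right_comm, h2,
      zero_mul]
  rw [IsLocalization.map_eq_zero_iff (Submonoid.powers g₀)] at h3
  obtain ⟨⟨_, m, rfl⟩, hm⟩ := h3
  exact ⟨m, hm⟩

/-- **Slicing by a fibrewise nonzerodivisor** (ring core of EGA IV 11.3.8 c)). -/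
theorem exists_slice [Algebra.FinitePresentation A B] [Module.Flat A L] (h : L)
    (hreg : ∀ x : L, h * x ∈ Ideal.map (algebraMap A L) (q.comap (algebraMap A B)) →
      x ∈ Ideal.map (algebraMap A L) (q.comap (algebraMap A B))) :
    ∃ g : B, g ∉ q ∧ ∀ (Bg : Type u) [CommRing Bg] [Algebra B Bg] [Algebra A Bg]
      [IsScalarTower A B Bg] [IsLocalization.Away g Bg] (ψ : Bg →+* L),
      ψ.comp (algebraMap B Bg) = algebraMap B L →
      ∃ h' : Bg, ψ h' = h ∧ h' ∈ nonZeroDivisors Bg ∧
        Module.Flat A (Bg ⧸ Ideal.span {h'}) := by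
  classical
  obtain ⟨⟨b, s⟩, hbs⟩ := IsLocalization.mk'_surjective q.primeCompl h
  have hbs' : IsLocalization.mk' L b s = h := hbs
  subst hbs'
  obtain ⟨hregB, g₁, hg₁, hU₁, hU₂⟩ := exists_flat_nbhd q L b s hreg
  have hg₀ : (s : B) * g₁ ∉ q := q.primeCompl.mul_mem s.2 hg₁
  have hU₂' : ∀ (Q : Ideal B) [Q.IsPrime], (s : B) * g₁ ∉ Q →
      Module.Flat A (LocalizedModule Q.primeCompl (B ⧸ Ideal.span {b})) :=
    fun Q _ hQ => hU₂ Q (fun h => hQ (Ideal.mul_mem_left _ _ h))
  obtain ⟨g₃, hg₃, hkill⟩ := exists_kill q L b ((s : B) * g₁) hg₀ hU₂' hregB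
  obtain ⟨g, hgdef⟩ : ∃ g : B, g = (s : B) * g₁ * g₃ := ⟨_, rfl⟩
  refine ⟨g, by rw [hgdef]; exact q.primeCompl.mul_mem hg₀ hg₃, ?_⟩
  intro Bg _ _ _ _ _ ψ hψ
  have hψ' : ∀ x : B, ψ (algebraMap B Bg x) = algebraMap B L x := fun x =>
    congrArg (fun φ : B →+* L => φ x) hψ
  have hgunit : IsUnit (algebraMap B Bg g) := IsLocalization.Away.algebraMap_isUnit g
  have hsunit : IsUnit (algebraMap B Bg (s : B)) := by
    rw [hgdef, map_mul, map_mul] at hgunit
    exact isUnit_of_mul_isUnit_left (isUnit_of_mul_isUnit_left hgunit)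
  obtain ⟨u, hu⟩ := hsunit
  have hflat_g : Module.Flat A (LocalizedModule (Submonoid.powers g) (B ⧸ Ideal.span {b})) := by
    rw [flat_localizedModule_iff_forall_prime]
    intro Q _ hQ
    refine hU₂ Q (fun h => Set.disjoint_left.mp hQ ?_ (Submonoid.mem_powers g))
    rw [hgdef]
    exact Ideal.mul_mem_right g₃ Q (Ideal.mul_mem_left Q (s : B) h)
  have hflat_q : Module.Flat A (Bg ⧸ Ideal.span {algebraMap B Bg b}) :=
    flat_quotient_of_isLocalization (Submonoid.powers g) Bg b hflat_g
  have hnzd : algebraMap B Bg b ∈ nonZeroDivisors Bg := by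
    rw [mem_nonZeroDivisors_iff_right]
    intro y hy
    obtain ⟨⟨c, t⟩, rfl⟩ := IsLocalization.mk'_surjective (Submonoid.powers g) y
    rw [mul_comm, IsLocalization.mul_mk'_eq_mk'_of_mul, IsLocalization.mk'_eq_zero_iff] at hy
    obtain ⟨⟨_, m, rfl⟩, hm⟩ := hy
    have h1 : b * (g ^ m * c) = 0 := by
      rw [← hm]; ring
    obtain ⟨m', hm'⟩ := hkill _ h1
    rw [IsLocalization.mk'_eq_zero_iff]
    refine ⟨⟨g ^ (m' + 1 + m), Submonoid.pow_mem _ (Submonoid.mem_powers g) _⟩, ?_⟩
    change g ^ (m' + 1 + m) * c = 0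
    have h2 : g ^ (m' + 1 + m) * c =
        ((s : B) * g₁ * g₃ ^ m') * (((s : B) * g₁) ^ m' * (g₃ * (g ^ m * c))) := by
      rw [hgdef]; ring
    rw [h2, hm', mul_zero]
  refine ⟨algebraMap B Bg b * ((u⁻¹ : Bgˣ) : Bg), ?_, ?_, ?_⟩
  · rw [IsLocalization.eq_mk'_iff_mul_eq, ← hψ' (s : B), ← map_mul, ← hu, mul_assoc,
      Units.inv_mul, mul_one, hψ']
  · exact mul_mem hnzd (IsUnit.mem_nonZeroDivisors (Units.isUnit _))
  · rw [Ideal.span_singleton_mul_right_unit (Units.isUnit _)]
    exact hflat_q

end Core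

end Groth.Agent.Lib27.Slice
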