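import Mathlib
import Groth.Agent.Lib.Helper18.FlK2

/-!
# Base change of explicitly presented modules over polynomial rings
-/

set_option autoImplicit false
set_option linter.style.haveILetI false
set_option linter.unusedSectionVars false

open TensorProduct Function MvPolynomial

universe u

namespace Groth.Agent.Lib27.BCPres

open Groth.Agent.Lib.Helper18.Fl

attribute [local instance] MvPolynomial.algebraMvPolynomial

section

variable {σ : Type} {R₀ R₁ : Type u} [CommRing R₀] [CommRing R₁] [Algebra R₀ R₁] {m r : ℕ}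

/-- `mapVec` as a linear map over the small polynomial ring. -/
noncomputable def mapVecₗ : (Fin r → MvPolynomial σ R₀) →ₗ[MvPolynomial σ R₀]
    (Fin r → MvPolynomial σ R₁) where
  toFun := mapVec (algebraMap R₀ R₁)
  map_add' := mapVec_add _
  map_smul' b v := by
    rw [mapVec_smul, RingHom.id_apply, ← MvPolynomial.algebraMap_def, algebraMap_smul]

@[simp] lemma mapVecₗ_apply (v : Fin r → MvPolynomial σ R₀) :
    mapVecₗ (R₁ := R₁) v = mapVec (algebraMap R₀ R₁) v := rfl

variable (g₀ : Fin m → Fin r → MvPolynomial σ R₀)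

/-- the map induced by `mapVec` on presented modules. -/
noncomputable def presMap : ((Fin r → MvPolynomial σ R₀) ⧸ Kspan g₀) →ₗ[MvPolynomial σ R₀]
    ((Fin r → MvPolynomial σ R₁) ⧸ Kspan (fun i => mapVec (algebraMap R₀ R₁) (g₀ i))) :=
  Submodule.liftQ (Kspan g₀)
    (((Kspan (fun i => mapVec (algebraMap R₀ R₁) (g₀ i))).mkQ.restrictScalars
      (MvPolynomial σ R₀)) ∘ₗ mapVecₗ) (by
    intro v hv
    rw [LinearMap.mem_ker, LinearMap.comp_apply, LinearMap.restrictScalars_apply,
      Submodule.mkQ_apply, Submodule.Quotient.mk_eq_zero, mapVecₗ_apply]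
    exact mapVec_mem_Kspan _ g₀ v hv)

lemma presMap_mk (v : Fin r → MvPolynomial σ R₀) :
    presMap (R₁ := R₁) g₀ (Submodule.Quotient.mk v) =
      Submodule.Quotient.mk (mapVec (algebraMap R₀ R₁) v) := rfl

lemma mk_eq_sum_single {R : Type u} [CommRing R] (g : Fin m → Fin r → MvPolynomial σ R)
    (v : Fin r → MvPolynomial σ R) :
    (Submodule.Quotient.mk v : (Fin r → MvPolynomial σ R) ⧸ Kspan g) =
      ∑ j, v j • (Submodule.Quotient.mk (Pi.single j 1) :
        (Fin r → MvPolynomial σ R) ⧸ Kspan g) := by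
  classical
  conv_lhs => rw [vec_eq_sum_single v]
  rw [← Submodule.mkQ_apply, map_sum]
  refine Finset.sum_congr rfl fun j _ => ?_
  rw [map_smul]
  rfl

theorem isBaseChange_presMap :
    IsBaseChange (MvPolynomial σ R₁) (presMap (R₁ := R₁) g₀) := by
  classical
  have hfx : ∀ j, presMap (R₁ := R₁) g₀ (Submodule.Quotient.mk (Pi.single j 1)) =
      Submodule.Quotient.mk (Pi.single j 1) := by
    intro j
    rw [presMap_mk, mapVec_single, map_one]
  refine isBaseChange_of_generators_relations (presMap (R₁ := R₁) g₀)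
    (fun j => Submodule.Quotient.mk (Pi.single j 1)) ?_ ?_ ?_
  · rw [eq_top_iff]
    intro y _
    obtain ⟨v, rfl⟩ := Submodule.Quotient.mk_surjective _ y
    rw [mk_eq_sum_single]
    exact Submodule.sum_mem _ fun j _ => Submodule.smul_mem _ _ (Submodule.subset_span ⟨j, rfl⟩)
  · simp_rw [hfx]
    rw [eq_top_iff]
    intro y _
    obtain ⟨v, rfl⟩ := Submodule.Quotient.mk_surjective _ y
    rw [mk_eq_sum_single]
    exact Submodule.sum_mem _ fun j _ => Submodule.smul_mem _ _ (Submodule.subset_span ⟨j, rfl⟩)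
  · intro w hw
    simp_rw [hfx] at hw
    rw [← mk_eq_sum_single, Submodule.Quotient.mk_eq_zero] at hw
    refine Submodule.span_mono ?_ hw
    rintro _ ⟨i, rfl⟩
    refine ⟨g₀ i, ?_, rfl⟩
    rw [← mk_eq_sum_single, Submodule.Quotient.mk_eq_zero]
    exact Submodule.subset_span ⟨i, rfl⟩

/-- base change of a presented module is the module presented by the base changed relations. -/
noncomputable def presEquiv : R₁ ⊗[R₀] ((Fin r → MvPolynomial σ R₀) ⧸ Kspan g₀) ≃ₗ[R₁]
    ((Fin r → MvPolynomial σ R₁) ⧸ Kspan (fun i => mapVec (algebraMap R₀ R₁) (g₀ i))) :=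
  (Algebra.IsPushout.cancelBaseChange R₀ R₁ (MvPolynomial σ R₀) (MvPolynomial σ R₁)
      ((Fin r → MvPolynomial σ R₀) ⧸ Kspan g₀)).symm ≪≫ₗ
    ((isBaseChange_presMap (R₁ := R₁) g₀).equiv.restrictScalars R₁)

theorem flat_pres_iff :
    Module.Flat R₁ (R₁ ⊗[R₀] ((Fin r → MvPolynomial σ R₀) ⧸ Kspan g₀)) ↔
      Module.Flat R₁ ((Fin r → MvPolynomial σ R₁) ⧸
        Kspan (fun i => mapVec (algebraMap R₀ R₁) (g₀ i))) :=
  ⟨fun _ => Module.Flat.of_linearEquiv (presEquiv (R₁ := R₁) g₀).symm,
    fun _ => Module.Flat.of_linearEquiv (presEquiv (R₁ := R₁) g₀)⟩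

theorem flat_pres_of_flat [Module.Flat R₀ ((Fin r → MvPolynomial σ R₀) ⧸ Kspan g₀)] :
    Module.Flat R₁ ((Fin r → MvPolynomial σ R₁) ⧸
      Kspan (fun i => mapVec (algebraMap R₀ R₁) (g₀ i))) :=
  (flat_pres_iff g₀).mp inferInstance

end

end Groth.Agent.Lib27.BCPres
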