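import Mathlib
import Groth.Prelude.Def_FlatCA
import Groth.Agent.Lib.Helper18.FlJ
import Groth.Agent.Lib27.Flat.BCPres

/-!
# Flatness of presented modules over a directed colimit of rings descends to a stage
-/

set_option autoImplicit false
set_option linter.style.haveILetI false
set_option linter.unusedSectionVars false

open Function MvPolynomial

universe u

namespace Groth.Agent.Lib27.Limit

open Groth.Agent.Lib.Helper18.Fl Groth.Agent.Lib27.BCPres

section

variable {ι : Type u} [Preorder ι] {G : ι → Type u} [∀ i, CommRing (G i)]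
  {g : ∀ i j, i ≤ j → G i →+* G j} {A : Type u} [CommRing A] [∀ i, Algebra (G i) A]
  (hc : FlatCA.IsDirectedColimitRing G g A)

include hc

lemma map_g (i j : ι) (h : i ≤ j) (x : G i) :
    algebraMap (G j) A (g i j h x) = algebraMap (G i) A x :=
  RingHom.congr_fun (hc.2.2.2.2.1 i j h) x

lemma g_g (i j k : ι) (hij : i ≤ j) (hjk : j ≤ k) (x : G i) :
    g j k hjk (g i j hij x) = g i k (hij.trans hjk) x :=
  RingHom.congr_fun (hc.2.2.2.1 i j k hij hjk) x

/-- finitely many elements come from a common stage. -/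
lemma exists_stage_of_finite {κ : Type*} [Finite κ] (a : κ → A) :
    ∃ i, ∀ k, ∃ x : G i, algebraMap (G i) A x = a k := by
  haveI := hc.1
  haveI := hc.2.1
  choose ik xk hxk using fun k => hc.2.2.2.2.2.1 (a k)
  obtain ⟨i, hi⟩ := Finite.exists_le ik
  refine ⟨i, fun k => ⟨g (ik k) i (hi k) (xk k), ?_⟩⟩
  rw [map_g hc, hxk]

/-- finitely many elements dying in the colimit die at a common later stage. -/
lemma exists_stage_kill {κ : Type*} [Finite κ] (i : ι) (x : κ → G i)
    (hx : ∀ k, algebraMap (G i) A (x k) = 0) : ∃ j, ∃ h : i ≤ j, ∀ k, g i j h (x k) = 0 := by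
  haveI := hc.1
  haveI : Nonempty ι := ⟨i⟩
  choose jk hjk hk using fun k => hc.2.2.2.2.2.2 i (x k) (hx k)
  obtain ⟨j, hj⟩ := Finite.exists_le (fun o : Option κ => o.elim i jk)
  refine ⟨j, hj none, fun k => ?_⟩
  have := g_g hc i (jk k) j (hjk k) (hj (some k)) (x k)
  rw [hk, map_zero] at this
  exact this.symm

/-- a ring map from a finitely presented `ℤ`-algebra to the colimit lifts to a stage. -/
theorem exists_lift (S : Type*) [CommRing S] [Algebra.FinitePresentation ℤ S] (φ : S →+* A) :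
    ∃ j, ∃ l : S →+* G j, (algebraMap (G j) A).comp l = φ := by
  classical
  obtain ⟨n, f, hf, s, hs⟩ := Algebra.FinitePresentation.out (R := ℤ) (A := S)
  obtain ⟨i₀, hi₀⟩ := exists_stage_of_finite hc (fun k : Fin n => φ (f (X k)))
  choose τ hτ using hi₀
  let ψ₀ : MvPolynomial (Fin n) ℤ →+* G i₀ := eval₂Hom (Int.castRingHom _) τ
  have hψ₀ : (algebraMap (G i₀) A).comp ψ₀ = φ.comp f.toRingHom := by
    refine MvPolynomial.ringHom_ext (fun z => ?_) (fun k => ?_)
    · simp
    · simp [ψ₀, hτ]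
  have hker : ∀ p : (s : Set (MvPolynomial (Fin n) ℤ)), algebraMap (G i₀) A (ψ₀ p.1) = 0 := by
    intro p
    have h1 : p.1 ∈ RingHom.ker f.toRingHom := by
      rw [← hs]; exact Ideal.subset_span p.2
    have h2 := RingHom.congr_fun hψ₀ p.1
    rw [RingHom.comp_apply, RingHom.comp_apply, (RingHom.mem_ker).mp h1, map_zero] at h2
    exact h2
  obtain ⟨j, hij, hj⟩ := exists_stage_kill hc i₀ (fun p : (s : Set (MvPolynomial (Fin n) ℤ)) =>
    ψ₀ p.1) hker
  let ψ : MvPolynomial (Fin n) ℤ →+* G j := (g i₀ j hij).comp ψ₀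
  have hψker : RingHom.ker f.toRingHom ≤ RingHom.ker ψ := by
    rw [← hs, Ideal.span_le]
    intro p hp
    exact hj ⟨p, hp⟩
  have hfs : Function.Surjective f.toRingHom := hf
  refine ⟨j, RingHom.liftOfSurjective f.toRingHom hfs ⟨ψ, hψker⟩, ?_⟩
  ext x
  obtain ⟨p, rfl⟩ := hfs x
  rw [RingHom.comp_apply, RingHom.liftOfSurjective_comp_apply]
  change algebraMap (G j) A (g i₀ j hij (ψ₀ p)) = _
  rw [map_g hc]
  exact RingHom.congr_fun hψ₀ p

/-- finitely many polynomial identities holding over the colimit hold at a later stage. -/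
lemma exists_stage_map_eq {σ : Type*} {κ : Type*} [Finite κ] (i : ι)
    (p q : κ → MvPolynomial σ (G i))
    (h : ∀ k, map (algebraMap (G i) A) (p k) = map (algebraMap (G i) A) (q k)) :
    ∃ j, ∃ hij : i ≤ j, ∀ k, map (g i j hij) (p k) = map (g i j hij) (q k) := by
  classical
  obtain ⟨j, hij, hj⟩ := exists_stage_kill hc i
    (fun x : (Σ k, ((p k - q k).support : Set (σ →₀ ℕ))) => coeff x.2.1 (p x.1 - q x.1)) (by
      rintro ⟨k, m, hm⟩
      change algebraMap (G i) A (coeff m (p k - q k)) = 0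
      rw [← coeff_map, map_sub, h k, sub_self, coeff_zero])
  refine ⟨j, hij, fun k => ?_⟩
  rw [← sub_eq_zero, ← map_sub]
  ext m
  rw [coeff_map, coeff_zero]
  by_cases hm : m ∈ (p k - q k).support
  · exact hj ⟨k, m, hm⟩
  · rw [notMem_support_iff.mp hm, map_zero]

end

section Main

variable {ι : Type u} [Preorder ι] {G : ι → Type u} [∀ i, CommRing (G i)]
  {g : ∀ i j, i ≤ j → G i →+* G j} {A : Type u} [CommRing A] [∀ i, Algebra (G i) A]
  (hc : FlatCA.IsDirectedColimitRing G g A)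
  {A₀ : Type u} [CommRing A₀] [∀ i, Algebra A₀ (G i)] [Algebra A₀ A]
  [∀ i, IsScalarTower A₀ (G i) A]
  (hg : ∀ i j (h : i ≤ j), (g i j h).comp (algebraMap A₀ (G i)) = algebraMap A₀ (G j))

include hc hg

/-- Flatness of a presented module over the colimit descends to some stage. -/
theorem exists_stage_flat {n m r : ℕ} (g₀ : Fin m → Fin r → MvPolynomial (Fin n) A₀)
    [hflat : Module.Flat A ((Fin r → MvPolynomial (Fin n) A) ⧸
      Kspan (fun i => mapVec (algebraMap A₀ A) (g₀ i)))] :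
    ∃ j, Module.Flat (G j) ((Fin r → MvPolynomial (Fin n) (G j)) ⧸
      Kspan (fun i => mapVec (algebraMap A₀ (G j)) (g₀ i))) := by
  classical
  -- the initial subalgebra
  obtain ⟨T, hTdef⟩ : ∃ T : Set A, T = ⋃ i, ⋃ k,
      ((mapVec (algebraMap A₀ A) (g₀ i) k).coeffs : Set A) := ⟨_, rfl⟩
  have hT : T.Finite := by
    rw [hTdef]
    exact Set.finite_iUnion fun i => Set.finite_iUnion fun j => Finset.finite_toSet _
  obtain ⟨S₀, hS₀def⟩ : ∃ S₀ : Subalgebra ℤ A, S₀ = Algebra.adjoin ℤ T := ⟨_, rfl⟩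
  have hS₀ : S₀.FG := by rw [hS₀def]; exact Subalgebra.fg_def.2 ⟨T, hT, rfl⟩
  have hTS : T ⊆ S₀ := by rw [hS₀def]; exact Algebra.subset_adjoin
  have hgT : ∀ i k, ((mapVec (algebraMap A₀ A) (g₀ i) k).coeffs : Set A) ⊆ S₀ := fun i k x hx =>
    hTS (by rw [hTdef]; exact Set.mem_iUnion.mpr ⟨i, Set.mem_iUnion.mpr ⟨k, hx⟩⟩)
  choose g₁ hg₁' using fun i k => exists_map_eq_of_coeffs_subset S₀ _ (hgT i k)
  have hg₁ : ∀ i, mapVec (inc S₀) (g₁ i) = mapVec (algebraMap A₀ A) (g₀ i) :=
    fun i => funext fun k => hg₁' i k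
  obtain ⟨S₂, h02, hS₂, hflat₂⟩ := exists_flat_level_global
    (fun i => mapVec (algebraMap A₀ A) (g₀ i)) S₀ hS₀ g₁ hg₁
  -- lift `S₂` to a stage
  haveI : Algebra.FiniteType ℤ ↥S₂ := (Subalgebra.fg_iff_finiteType S₂).mp hS₂
  haveI : Algebra.FinitePresentation ℤ ↥S₂ := Algebra.FinitePresentation.of_finiteType.mp ‹_›
  obtain ⟨j, l, hl⟩ := exists_lift hc ↥S₂ (inc S₂)
  -- compare the two families of relations at a later stage
  obtain ⟨j', hjj', hj'⟩ := exists_stage_map_eq hc (κ := Fin m × Fin r) j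
    (fun x => map l (map (incl h02) (g₁ x.1 x.2)))
    (fun x => map (algebraMap A₀ (G j)) (g₀ x.1 x.2)) (by
      rintro ⟨i, k⟩
      change map _ (map l (map (incl h02) (g₁ i k))) = map _ (map (algebraMap A₀ (G j)) (g₀ i k))
      rw [map_map, map_map, map_map, hl, inc_comp_incl, ← IsScalarTower.algebraMap_eq]
      exact hg₁' i k)
  -- `G j'` as an `S₂`-algebra
  letI : Algebra ↥S₂ (G j') := ((g j j' hjj').comp l).toAlgebra
  haveI := hflat₂
  have key := flat_pres_of_flat (R₀ := ↥S₂) (R₁ := G j') (fun i => mapVec (incl h02) (g₁ i))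
  refine ⟨j', ?_⟩
  have heq : (fun i => mapVec (algebraMap ↥S₂ (G j')) (mapVec (incl h02) (g₁ i))) =
      fun i => mapVec (algebraMap A₀ (G j')) (g₀ i) := by
    funext i k
    change map ((g j j' hjj').comp l) (map (incl h02) (g₁ i k)) = map _ (g₀ i k)
    rw [← hg j j' hjj', ← map_map, ← map_map (algebraMap A₀ (G j))]
    exact hj' (i, k)
  rw [heq] at key
  exact key

end Main

end Groth.Agent.Lib27.Limit
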