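import Mathlib
import Groth.Agent.Lib27.Flat.KerFP
import Groth.Agent.Lib.Helper18.FlI

/-!
# Openness of the locus where a map of modules is injective with flat cokernel
-/

set_option autoImplicit false
set_option linter.style.haveILetI false
set_option linter.unusedSectionVars false

open Function

universe u

namespace Groth.Agent.Lib27.InjFlatOpen

open Groth.Agent.Lib.Helper18.Fl

section Loc

variable {B : Type u} [CommRing B] (S : Submonoid B) {M' : Type u} [AddCommGroup M'] [Module B M']

/-- if the localization of a submodule is finitely generated, it is the localization of a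
finitely generated submodule. -/
theorem exists_fg_le_of_localized_fg (N₀ : Submodule B M')
    (h : (N₀.localized' (Localization S) S (LocalizedModule.mkLinearMap S M')).FG) :
    ∃ N₁ : Submodule B M', N₁.FG ∧ N₁ ≤ N₀ ∧ ∀ m ∈ N₀, ∃ s ∈ S, s • m ∈ N₁ := by
  classical
  rw [Submodule.localized'_eq_span, Submodule.fg_span_iff_fg_span_finset_subset] at h
  obtain ⟨s', hs', hspan⟩ := h
  choose n hn hns using fun x : s' => hs' x.2
  refine ⟨Submodule.span B (Set.range n), ?_, ?_, ?_⟩
  · exact Submodule.fg_span (Set.finite_range n)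
  · rw [Submodule.span_le]
    rintro _ ⟨x, rfl⟩
    exact hn x
  · intro m hm
    have h1 : LocalizedModule.mkLinearMap S M' m ∈
        (Submodule.span B (Set.range n)).localized' (Localization S) S
          (LocalizedModule.mkLinearMap S M') := by
      rw [Submodule.localized'_span]
      have h2 : LocalizedModule.mkLinearMap S M' m ∈ Submodule.span (Localization S)
          (LocalizedModule.mkLinearMap S M' '' (N₀ : Set M')) :=
        Submodule.subset_span ⟨m, hm, rfl⟩
      rw [hspan] at h2
      refine Submodule.span_mono ?_ h2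
      intro y hy
      exact ⟨n ⟨y, hy⟩, ⟨⟨y, hy⟩, rfl⟩, hns ⟨y, hy⟩⟩
    obtain ⟨k, hk, t, ht⟩ := h1
    rw [IsLocalizedModule.mk'_eq_iff, Submonoid.smul_def, ← map_smul] at ht
    obtain ⟨c, hc⟩ := (IsLocalizedModule.eq_iff_exists S (LocalizedModule.mkLinearMap S M')).mp ht
    refine ⟨c * t, S.mul_mem c.2 t.2, ?_⟩
    have : ((c : B) * (t : B)) • m = (c : B) • k := by
      rw [mul_smul]
      exact hc.symm
    rw [this]
    exact Submodule.smul_mem _ _ hk

end Loc

section Main

variable {A B : Type u} [CommRing A] [CommRing B] [Algebra A B] [Algebra.FinitePresentation A B]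
  {M' M : Type u} [AddCommGroup M'] [Module B M'] [AddCommGroup M] [Module B M] [Module A M]
  [IsScalarTower A B M] [Module.Finite B M'] [Module.FinitePresentation B M]

/-- if the cokernel of `ū` becomes `A`-flat after inverting `g`, the kernel of `ū` is, after
inverting `g`, the localization of a finitely generated submodule. -/
theorem exists_fg_le_ker (ū : M' →ₗ[B] M) (g : B)
    (hflat : Module.Flat A (LocalizedModule (Submonoid.powers g) (M ⧸ LinearMap.range ū))) :
    ∃ N₁ : Submodule B M', N₁.FG ∧ N₁ ≤ LinearMap.ker ū ∧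
      ∀ m ∈ LinearMap.ker ū, ∃ k : ℕ, g ^ k • m ∈ N₁ := by
  set S := Submonoid.powers g with hS
  haveI : Algebra.FinitePresentation A (Localization S) := by
    haveI : Algebra.FinitePresentation B (Localization S) :=
      IsLocalization.Away.finitePresentation (S := Localization.Away g) g
    exact Algebra.FinitePresentation.trans A B (Localization S)
  set C := M ⧸ LinearMap.range ū with hC
  haveI : Module.FinitePresentation B C :=
    Module.finitePresentation_of_surjective (LinearMap.range ū).mkQ (Submodule.mkQ_surjective _)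
      (by
        rw [Submodule.ker_mkQ, LinearMap.range_eq_map]
        exact Submodule.FG.map _ Module.Finite.fg_top)
  let f' := LocalizedModule.mkLinearMap S M'
  let f := LocalizedModule.mkLinearMap S M
  let fC := LocalizedModule.mkLinearMap S C
  let ug : LocalizedModule S M' →ₗ[Localization S] LocalizedModule S M :=
    (IsLocalizedModule.map S f' f ū).extendScalarsOfIsLocalization S (Localization S)
  let πg : LocalizedModule S M →ₗ[Localization S] LocalizedModule S C :=
    (IsLocalizedModule.map S f fC (LinearMap.range ū).mkQ).extendScalarsOfIsLocalization S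
      (Localization S)
  have hπsurj : Surjective πg :=
    IsLocalizedModule.map_surjective S f fC _ (Submodule.mkQ_surjective _)
  have hker : LinearMap.ker πg = LinearMap.range ug := by
    rw [← LinearMap.localized'_ker_eq_ker_localizedMap (Localization S) S f fC,
      ← LinearMap.localized'_range_eq_range_localizedMap (Localization S) S f' f,
      Submodule.ker_mkQ]
  haveI hKfp : Module.FinitePresentation (Localization S) (LinearMap.ker πg) :=
    Groth.Agent.Lib27.KerFP.finitePresentation_ker_of_flat (A := A) (D := Localization S) πg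
      hπsurj
  let ug' : LocalizedModule S M' →ₗ[Localization S] LinearMap.ker πg :=
    ug.codRestrict (LinearMap.ker πg) (fun m => by rw [hker]; exact ⟨m, rfl⟩)
  have hug'surj : Surjective ug' := by
    rintro ⟨y, hy⟩
    rw [hker] at hy
    obtain ⟨m, rfl⟩ := hy
    exact ⟨m, rfl⟩
  have hfg : (LinearMap.ker ug').FG := Module.FinitePresentation.fg_ker ug' hug'surj
  rw [LinearMap.ker_codRestrict,
    ← LinearMap.localized'_ker_eq_ker_localizedMap (Localization S) S f' f] at hfg
  obtain ⟨N₁, hN₁fg, hN₁le, hN₁⟩ := exists_fg_le_of_localized_fg S (LinearMap.ker ū) hfg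
  refine ⟨N₁, hN₁fg, hN₁le, fun m hm => ?_⟩
  obtain ⟨s, ⟨k, rfl⟩, hs⟩ := hN₁ m hm
  exact ⟨k, hs⟩

/-- The set of primes `Q` of `B` at which `ū` is injective and its cokernel is flat over `A` is
open. -/
theorem isOpen_injFlatLocus (ū : M' →ₗ[B] M) :
    IsOpen {Q : PrimeSpectrum B | Q ∉ Module.support B (LinearMap.ker ū) ∧
      Module.Flat A (LocalizedModule Q.asIdeal.primeCompl (M ⧸ LinearMap.range ū))} := by
  set C := M ⧸ LinearMap.range ū with hC
  haveI : Module.FinitePresentation B C :=
    Module.finitePresentation_of_surjective (LinearMap.range ū).mkQ (Submodule.mkQ_surjective _)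
      (by
        rw [Submodule.ker_mkQ, LinearMap.range_eq_map]
        exact Submodule.FG.map _ Module.Finite.fg_top)
  have hO : IsOpen {Q : PrimeSpectrum B |
      Module.Flat A (LocalizedModule Q.asIdeal.primeCompl C)} :=
    isOpen_flatLocus (R := A) (S := B) (M := C)
  rw [isOpen_iff_forall_mem_open]
  rintro Q₀ ⟨hQ₀s, hQ₀f⟩
  obtain ⟨_, ⟨g, rfl⟩, hgQ₀, hgsub⟩ :=
    PrimeSpectrum.isTopologicalBasis_basic_opens.exists_subset_of_mem_open hQ₀f hO
  have hflatg : Module.Flat A (LocalizedModule (Submonoid.powers g) C) := by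
    rw [flat_localizedModule_iff_forall_prime (A := A) (Submonoid.powers g)]
    intro Q _ hdisj
    have hgQ : g ∉ Q := fun hg =>
      Set.disjoint_left.mp hdisj hg (Submonoid.mem_powers g)
    exact hgsub (show (⟨Q, inferInstance⟩ : PrimeSpectrum B) ∈ PrimeSpectrum.basicOpen g from hgQ)
  obtain ⟨N₁, hN₁fg, hN₁le, hN₁⟩ := exists_fg_le_ker (A := A) ū g hflatg
  haveI : Module.Finite B N₁ := Module.Finite.iff_fg.mpr hN₁fg
  refine ⟨(PrimeSpectrum.basicOpen g : Set (PrimeSpectrum B)) ∩ (Module.support B N₁)ᶜ, ?_, ?_, ?_⟩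
  · rintro Q ⟨hgQ, hQN₁⟩
    refine ⟨?_, hgsub hgQ⟩
    rw [Module.notMem_support_iff']
    rintro ⟨m, hm⟩
    obtain ⟨k, hk⟩ := hN₁ m hm
    obtain ⟨r, hr, hr0⟩ := (Module.notMem_support_iff'.mp hQN₁) ⟨g ^ k • m, hk⟩
    refine ⟨r * g ^ k, ?_, ?_⟩
    · exact fun h => (Q.2.mem_or_mem h).elim hr (fun h' => hgQ (Q.2.mem_of_pow_mem k h'))
    · apply Subtype.ext
      have := congrArg Subtype.val hr0
      simpa [mul_smul] using this
  · exact (PrimeSpectrum.basicOpen g).isOpen.inter Module.isClosed_support.isOpen_compl
  · refine ⟨hgQ₀, ?_⟩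
    change Q₀ ∉ Module.support B N₁
    rw [Module.notMem_support_iff'] at hQ₀s ⊢
    rintro ⟨m, hm⟩
    obtain ⟨r, hr, hr0⟩ := hQ₀s ⟨m, hN₁le hm⟩
    refine ⟨r, hr, ?_⟩
    apply Subtype.ext
    have := congrArg Subtype.val hr0
    simpa using this

end Main

end Groth.Agent.Lib27.InjFlatOpen
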