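import Mathlib
import Groth.Agent.Lib.Helper23.FibCritEFP
import Groth.Agent.Lib.Helper9.FlatCrit

/-!
# The fibrewise flatness criterion for local rings, the middle ring being arbitrary

`R → S → S'` local homomorphisms of local rings with `S'` essentially of finite presentation over
`S` (no finiteness of `S` over `R`), `M` a nonzero finitely presented `S'`-module flat over `R` with
`M/𝔪_R M` flat over `S/𝔪_R S`.  Then `S` is flat over `R` and `M` is flat over `S`.
-/

set_option autoImplicit false
set_option linter.style.haveILetI false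
set_option linter.unusedSectionVars false

universe u

open TensorProduct Function

namespace Groth.Agent.Lib27.FibCritLocal

open Groth.Agent.Lib.Helper23.FibCritEFP

/-- the shape of a local ring essentially of finite presentation over `S`: a quotient by a finitely
generated ideal of the localization of a polynomial ring over `S` at a prime. -/
def LocPres (S S' : Type u) [CommRing S] [CommRing S'] [IsLocalRing S'] [Algebra S S'] : Prop :=
  ∃ (m : ℕ) (q : Ideal (MvPolynomial (Fin m) S)) (_ : q.IsPrime)
    (ψ : Localization.AtPrime q →+* S'),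
    (∀ b, b ∈ q ↔ ψ (algebraMap _ _ b) ∈ IsLocalRing.maximalIdeal S') ∧
    (∀ s : S, ψ (algebraMap S (Localization.AtPrime q) s) = algebraMap S S' s) ∧
    Surjective ψ ∧ (RingHom.ker ψ).FG

/-- the localization at a prime of a finitely presented algebra over `B₀` has a local presentation
over the localization of `B₀` at the contracted prime. -/
theorem locPres_of_finitePresentation {B₀ C₀ : Type u} [CommRing B₀] [CommRing C₀] [Algebra B₀ C₀]
    [Algebra.FinitePresentation B₀ C₀] (p : Ideal C₀) [p.IsPrime]
    (B : Type u) [CommRing B] [Algebra B₀ B]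
    [IsLocalization.AtPrime B (p.comap (algebraMap B₀ C₀))]
    (C : Type u) [CommRing C] [IsLocalRing C] [Algebra C₀ C] [IsLocalization.AtPrime C p]
    [Algebra B C] [Algebra B₀ C] [IsScalarTower B₀ B C] [IsScalarTower B₀ C₀ C] :
    LocPres B C := by
  classical
  let φ : B ⊗[B₀] C₀ →ₐ[B] C :=
    Algebra.TensorProduct.lift (Algebra.ofId B C) (IsScalarTower.toAlgHom B₀ C₀ C)
      (fun _ _ => Commute.all _ _)
  letI algT : Algebra (B ⊗[B₀] C₀) C := φ.toRingHom.toAlgebra
  haveI : IsScalarTower B (B ⊗[B₀] C₀) C := IsScalarTower.of_algebraMap_eq (fun b => by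
    change algebraMap B C b = φ (algebraMap B (B ⊗[B₀] C₀) b)
    rw [φ.commutes])
  letI algR : Algebra C₀ (B ⊗[B₀] C₀) := Algebra.TensorProduct.rightAlgebra
  haveI : IsScalarTower C₀ (B ⊗[B₀] C₀) C := IsScalarTower.of_algebraMap_eq (fun c => by
    change algebraMap C₀ C c = φ ((1 : B) ⊗ₜ[B₀] c)
    simp [φ])
  haveI hloc1 : IsLocalization
      (Algebra.algebraMapSubmonoid C₀ (p.comap (algebraMap B₀ C₀)).primeCompl) (B ⊗[B₀] C₀) :=
    IsLocalization.tensorRight _ _
  have hle : Algebra.algebraMapSubmonoid C₀ (p.comap (algebraMap B₀ C₀)).primeCompl ≤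
      p.primeCompl := by
    rintro _ ⟨b, hb, rfl⟩
    exact hb
  haveI hloc2 : IsLocalization (p.primeCompl.map (algebraMap C₀ (B ⊗[B₀] C₀))) C :=
    IsLocalization.isLocalization_of_submonoid_le (B ⊗[B₀] C₀) C _ _ hle
  haveI : IsLocalization (⊥ : Submonoid B) B := IsLocalization.self bot_le
  haveI : Algebra.FinitePresentation B (B ⊗[B₀] C₀) := inferInstance
  exact exists_locPresentation (R := B) (S := B) (S' := C) B (⊥ : Submonoid B) (B ⊗[B₀] C₀)
    (p.primeCompl.map (algebraMap C₀ (B ⊗[B₀] C₀)))

variable {R S S' M : Type u} [CommRing R] [CommRing S] [CommRing S']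
    [IsLocalRing R] [IsLocalRing S] [IsLocalRing S'] [Algebra R S] [Algebra S S'] [Algebra R S']
    [IsScalarTower R S S'] [IsLocalHom (algebraMap R S)] [IsLocalHom (algebraMap S S')]

/-- **The fibrewise flatness criterion**, with no hypothesis on `R → S`. -/
theorem flat_of_fibre_flat (hS' : LocPres S S')
    [AddCommGroup M] [Module S' M] [Module S M] [Module R M] [IsScalarTower S S' M]
    [IsScalarTower R S' M] [IsScalarTower R S M] [Module.FinitePresentation S' M] [Nontrivial M]
    [Module.Flat R M]
    (hfib : Module.Flat (S ⧸ (IsLocalRing.maximalIdeal R).map (algebraMap R S))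
      (M ⧸ (IsLocalRing.maximalIdeal R).map (algebraMap R S) • (⊤ : Submodule S M))) :
    Module.Flat R S ∧ Module.Flat S M := by
  classical
  obtain ⟨m, q, hqp, ψ, hqmem, hψS, hψsurj, hψfg⟩ := hS'
  haveI := hqp
  -- `q` lies over the maximal ideal of `S`
  have hq : q.comap (algebraMap S (MvPolynomial (Fin m) S)) = IsLocalRing.maximalIdeal S := by
    ext s
    rw [Ideal.mem_comap, hqmem,
      ← IsScalarTower.algebraMap_apply S (MvPolynomial (Fin m) S) (Localization.AtPrime q), hψS,
      ← IsLocalRing.maximalIdeal_comap (algebraMap S S'), Ideal.mem_comap]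
  -- module structures
  letI : Algebra (Localization.AtPrime q) S' := ψ.toAlgebra
  letI : Module (Localization.AtPrime q) M := Module.compHom M ψ
  have hsm : ∀ (a : Localization.AtPrime q) (x : M), a • x = ψ a • x := fun _ _ => rfl
  have hsm' : ∀ (a : Localization.AtPrime q) (b : S'), a • b = ψ a * b := fun _ _ => rfl
  haveI : IsScalarTower (Localization.AtPrime q) S' M :=
    ⟨fun a b x => by rw [hsm, hsm', mul_smul]⟩
  haveI : IsScalarTower S (Localization.AtPrime q) M := ⟨fun s a x => by
    rw [hsm, hsm, Algebra.smul_def, map_mul, hψS, mul_smul, algebraMap_smul]⟩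
  haveI : Module.FinitePresentation (Localization.AtPrime q) S' := by
    refine Module.finitePresentation_of_surjective
      (Algebra.linearMap (Localization.AtPrime q) S') hψsurj ?_
    have : LinearMap.ker (Algebra.linearMap (Localization.AtPrime q) S') = RingHom.ker ψ := by
      ext x
      rfl
    rw [this]
    exact hψfg
  haveI : Module.FinitePresentation (Localization.AtPrime q) M :=
    Module.FinitePresentation.trans (Localization.AtPrime q) M S'
  -- `Tor₁^S(M, S/𝔪_S) = 0`
  set I := (IsLocalRing.maximalIdeal R).map (algebraMap R S) with hI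
  have hinj : Injective (LinearMap.rTensor M I.subtype) :=
    Groth.Agent.Lib.Helper9.rTensor_map_subtype_injective (IsLocalRing.maximalIdeal R)
      (Module.Flat.rTensor_preserves_injective_linearMap _ (Submodule.injective_subtype _))
  haveI : Module.Flat (S ⧸ I) ((S ⧸ I) ⊗[S] M) := by
    haveI := hfib
    exact Module.Flat.of_linearEquiv
      ((TensorProduct.quotTensorEquivQuotSMul M I).extendScalarsOfSurjective
        Ideal.Quotient.mk_surjective)
  have hIle : I ≤ IsLocalRing.maximalIdeal S := IsLocalRing.map_maximalIdeal_le (algebraMap R S)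
  have hTV : Groth.Agent.Lib.Helper9.TorOneVanish S M (S ⧸ IsLocalRing.maximalIdeal S) :=
    Groth.Agent.Lib.Helper9.torOneVanish_of_isTorsionBySet I hinj (by
      intro x a
      obtain ⟨y, rfl⟩ := Ideal.Quotient.mk_surjective x
      change (a : S) • Ideal.Quotient.mk _ y = 0
      rw [← Ideal.Quotient.mk_eq_mk, ← Submodule.Quotient.mk_smul,
        Submodule.Quotient.mk_eq_zero]
      exact Ideal.mul_mem_right _ _ (hIle a.2))
  have hTor' : Injective ((IsLocalRing.maximalIdeal S).subtype.rTensor M) :=
    hTV _ _ (IsLocalRing.maximalIdeal S).subtype (Submodule.mkQ _)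
      (Submodule.injective_subtype _) (LinearMap.exact_subtype_mkQ _) (Submodule.mkQ_surjective _)
  have hTor : Injective ((IsLocalRing.maximalIdeal S).subtype.lTensor M) :=
    (LinearMap.lTensor_inj_iff_rTensor_inj _ _).mpr hTor'
  have hflat : Module.Flat S M :=
    flat_of_lTensor_maximalIdeal_injective (A := S) (B := MvPolynomial (Fin m) S) q
      (Localization.AtPrime q) hq hTor
  have hff : Module.FaithfullyFlat S M :=
    Groth.Agent.Lib.Helper9.faithfullyFlat_of_finite_of_isLocalHom (S' := S')
  exact ⟨Groth.Agent.Lib.Helper9.flat_of_faithfullyFlat_of_flat (M := M), hflat⟩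

end Groth.Agent.Lib27.FibCritLocal
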