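import Mathlib
import Groth.Agent.Lib.Helper10.PullbackStalk

/-!
# Flatness on the closed fibre descends along an arbitrary base change

`A → A'` a homomorphism of rings with `A` local, `A → B → C` and `A' → B' → C'` with
`A' ⊗_A B → B'` and `A' ⊗_A C → C'` flat, `C → C'` a local homomorphism of local rings, `M` a
`C`-module such that `C' ⊗_C M` is flat over `B'`.  Then `M/𝔪_A M` is flat over `B/𝔪_A B`.
-/

set_option autoImplicit false
set_option linter.style.haveILetI false
set_option linter.unusedSectionVars false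

universe u

open TensorProduct Function

namespace Groth.Agent.Lib27.FibreBC

section Killed

variable {A : Type u} [CommRing A] [IsLocalRing A]

/-- over an `A`-algebra killed by the maximal ideal, every base-changed module is flat. -/
theorem flat_tensor_of_killed (Rb : Type u) [CommRing Rb] [Algebra A Rb]
    (hk : ∀ a ∈ IsLocalRing.maximalIdeal A, algebraMap A Rb a = 0)
    (N : Type u) [AddCommGroup N] [Module A N] : Module.Flat Rb (Rb ⊗[A] N) := by
  letI algk : Algebra (IsLocalRing.ResidueField A) Rb :=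
    (Ideal.Quotient.lift (IsLocalRing.maximalIdeal A) (algebraMap A Rb) hk).toAlgebra
  haveI : IsScalarTower A (IsLocalRing.ResidueField A) Rb :=
    IsScalarTower.of_algebraMap_eq (fun a => rfl)
  haveI : Module.Flat (IsLocalRing.ResidueField A) (IsLocalRing.ResidueField A ⊗[A] N) :=
    inferInstance
  exact Module.Flat.of_linearEquiv
    (TensorProduct.AlgebraTensorModule.cancelBaseChange A (IsLocalRing.ResidueField A) Rb Rb N).symm

/-- base change to a ring killed by the maximal ideal of a module flat over `A' ⊗_A R`. -/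
theorem flat_tensor_of_flat_productMap
    (A' R R' Rb N : Type u) [CommRing A'] [CommRing R] [CommRing R'] [CommRing Rb]
    [Algebra A A'] [Algebra A R] [Algebra R R'] [Algebra A' R'] [Algebra A R']
    [IsScalarTower A R R'] [IsScalarTower A A' R']
    [Algebra R Rb] [Algebra A Rb] [IsScalarTower A R Rb]
    (hk : ∀ a ∈ IsLocalRing.maximalIdeal A, algebraMap A Rb a = 0)
    (hφ : (Algebra.TensorProduct.productMap (IsScalarTower.toAlgHom A A' R')
      (IsScalarTower.toAlgHom A R R')).toRingHom.Flat)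
    [AddCommGroup N] [Module R' N] [Module R N] [IsScalarTower R R' N] [Module.Flat R' N] :
    Module.Flat Rb (Rb ⊗[R] N) := by
  classical
  -- the map `R ⊗ A' → R'`
  let ψ : R ⊗[A] A' →ₐ[A] R' :=
    Algebra.TensorProduct.productMap (IsScalarTower.toAlgHom A R R')
      (IsScalarTower.toAlgHom A A' R')
  have hψ : ψ.toRingHom.Flat := by
    have : ψ.toRingHom = (Algebra.TensorProduct.productMap (IsScalarTower.toAlgHom A A' R')
        (IsScalarTower.toAlgHom A R R')).toRingHom.comp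
        (Algebra.TensorProduct.comm A R A').toAlgHom.toRingHom := by
      apply RingHom.ext
      intro t
      induction t using TensorProduct.induction_on with
      | zero => simp
      | tmul r a => simp [ψ, mul_comm]
      | add x y hx hy => rw [map_add, map_add, hx, hy]
    rw [this]
    exact RingHom.Flat.comp
      (RingHom.Flat.of_bijective (Algebra.TensorProduct.comm A R A').bijective) hφ
  letI algT : Algebra (R ⊗[A] A') R' := ψ.toRingHom.toAlgebra
  haveI : IsScalarTower R (R ⊗[A] A') R' := IsScalarTower.of_algebraMap_eq (fun r => by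
    change algebraMap R R' r = ψ (r ⊗ₜ 1)
    simp [ψ])
  letI modT : Module (R ⊗[A] A') N := Module.compHom N ψ.toRingHom
  haveI : IsScalarTower (R ⊗[A] A') R' N := ⟨fun t r n => by
    change (t • r) • n = ψ t • (r • n)
    rw [Algebra.smul_def, mul_smul]
    rfl⟩
  haveI : IsScalarTower R (R ⊗[A] A') N := IsScalarTower.of_algebraMap_smul (fun r n => by
    change ψ (r ⊗ₜ 1) • n = r • n
    have : ψ (r ⊗ₜ 1) = algebraMap R R' r := by simp [ψ]
    rw [this, algebraMap_smul])
  haveI : Module.Flat (R ⊗[A] A') R' := hψ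
  haveI : Module.Flat (R ⊗[A] A') N := Module.Flat.trans (R ⊗[A] A') R' N
  letI algR : Algebra (R ⊗[A] A') (Rb ⊗[R] (R ⊗[A] A')) := Algebra.TensorProduct.rightAlgebra
  -- `Rb ⊗ T` is flat over `Rb`
  haveI h0 : Module.Flat Rb (Rb ⊗[R] (R ⊗[A] A')) := by
    haveI := flat_tensor_of_killed Rb hk A'
    exact Module.Flat.of_linearEquiv
      (TensorProduct.AlgebraTensorModule.cancelBaseChange A R Rb Rb A')
  haveI h1 : Module.Flat (Rb ⊗[R] (R ⊗[A] A')) ((Rb ⊗[R] (R ⊗[A] A')) ⊗[R ⊗[A] A'] N) :=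
    inferInstance
  haveI h2 : Module.Flat Rb ((Rb ⊗[R] (R ⊗[A] A')) ⊗[R ⊗[A] A'] N) :=
    Module.Flat.trans Rb (Rb ⊗[R] (R ⊗[A] A')) _
  exact Module.Flat.of_linearEquiv
    (Algebra.IsPushout.cancelBaseChange R Rb (R ⊗[A] A') (Rb ⊗[R] (R ⊗[A] A')) N).symm

end Killed

section FF

/-- a flat base change of a local homomorphism of local rings to a quotient is faithfully flat. -/
theorem faithfullyFlat_tensor_of_isLocalHom {C C' Cb : Type u} [CommRing C] [CommRing C']
    [CommRing Cb] [IsLocalRing C] [IsLocalRing C'] [Algebra C C'] [IsLocalHom (algebraMap C C')]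
    [Algebra C Cb] (hsurj : Surjective (algebraMap C Cb)) [Module.Flat Cb (Cb ⊗[C] C')] :
    Module.FaithfullyFlat Cb (Cb ⊗[C] C') := by
  classical
  rw [Module.FaithfullyFlat.iff_flat_and_proper_ideal]
  refine ⟨inferInstance, fun I hI htop => ?_⟩
  have hJ : ∀ c : C, algebraMap C Cb c ∈ I → c ∈ IsLocalRing.maximalIdeal C := by
    intro c hc
    by_contra hcon
    have hu : IsUnit c := by
      rwa [IsLocalRing.mem_maximalIdeal, mem_nonunits_iff, not_not] at hcon
    exact hI (Ideal.eq_top_of_isUnit_mem _ hc (hu.map _))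
  have hres : ∀ c : C, c ∈ IsLocalRing.maximalIdeal C →
      algebraMap C (IsLocalRing.ResidueField C') c = 0 := by
    intro c hc
    rw [IsScalarTower.algebraMap_apply C C' (IsLocalRing.ResidueField C'),
      IsLocalRing.ResidueField.algebraMap_eq, IsLocalRing.residue_eq_zero_iff]
    exact map_nonunit (algebraMap C C') c hc
  have hker : RingHom.ker (algebraMap C Cb) ≤
      RingHom.ker (algebraMap C (IsLocalRing.ResidueField C')) := by
    intro c hc
    rw [RingHom.mem_ker] at hc ⊢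
    exact hres c (hJ c (by rw [hc]; exact I.zero_mem))
  let σ₀ : Cb →+* IsLocalRing.ResidueField C' :=
    RingHom.liftOfSurjective (algebraMap C Cb) hsurj
      ⟨algebraMap C (IsLocalRing.ResidueField C'), hker⟩
  have hσ₀ : ∀ c : C, σ₀ (algebraMap C Cb c) = algebraMap C (IsLocalRing.ResidueField C') c :=
    fun c => RingHom.liftOfSurjective_comp_apply (algebraMap C Cb) hsurj
      ⟨algebraMap C (IsLocalRing.ResidueField C'), hker⟩ c
  let σ : Cb →ₐ[C] IsLocalRing.ResidueField C' := { σ₀ with commutes' := hσ₀ }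
  let χ : Cb ⊗[C] C' →ₐ[C] IsLocalRing.ResidueField C' :=
    Algebra.TensorProduct.lift σ (IsScalarTower.toAlgHom C C' (IsLocalRing.ResidueField C'))
      (fun _ _ => Commute.all _ _)
  have hχ : ∀ t ∈ I • (⊤ : Submodule Cb (Cb ⊗[C] C')), χ t = 0 := by
    intro t ht
    refine Submodule.smul_induction_on ht ?_ ?_
    · intro i hi t _
      obtain ⟨c, rfl⟩ := hsurj i
      have h1 : (algebraMap C Cb c) • t = (algebraMap C Cb c ⊗ₜ[C] (1 : C')) * t := by
        rw [Algebra.smul_def]
        rfl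
      have h2 : χ (algebraMap C Cb c ⊗ₜ[C] (1 : C')) = 0 := by
        simp only [χ, Algebra.TensorProduct.lift_tmul, map_one, mul_one]
        change σ₀ (algebraMap C Cb c) = 0
        rw [hσ₀]
        exact hres c (hJ c hi)
      rw [h1, map_mul, h2, zero_mul]
    · intro x y hx hy
      rw [map_add, hx, hy, add_zero]
  have h1 : χ 1 = 0 := hχ 1 (by rw [htop]; trivial)
  rw [map_one] at h1
  exact one_ne_zero h1

end FF

section Main

variable {A A' B B' C C' M : Type u} [CommRing A] [CommRing A'] [CommRing B] [CommRing B']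
  [CommRing C] [CommRing C'] [IsLocalRing A] [IsLocalRing C] [IsLocalRing C']
  [Algebra A A'] [Algebra A B] [Algebra A C] [Algebra B C] [IsScalarTower A B C]
  [Algebra A' B'] [Algebra A' C'] [Algebra B' C'] [IsScalarTower A' B' C']
  [Algebra B B'] [Algebra C C'] [Algebra A B'] [Algebra A C'] [Algebra B C']
  [IsScalarTower A A' B'] [IsScalarTower A B B'] [IsScalarTower A A' C'] [IsScalarTower A C C']
  [IsScalarTower B B' C'] [IsScalarTower B C C']
  [IsLocalHom (algebraMap C C')]
  [AddCommGroup M] [Module C M] [Module B M] [IsScalarTower B C M]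

/-- **Flatness on the closed fibre descends along base change.** -/
theorem flat_quot_tensor_of_flat_baseChange
    (hY : (Algebra.TensorProduct.productMap (IsScalarTower.toAlgHom A A' B')
      (IsScalarTower.toAlgHom A B B')).toRingHom.Flat)
    (hX : (Algebra.TensorProduct.productMap (IsScalarTower.toAlgHom A A' C')
      (IsScalarTower.toAlgHom A C C')).toRingHom.Flat)
    [Module.Flat B' (C' ⊗[C] M)] :
    Module.Flat (B ⧸ (IsLocalRing.maximalIdeal A).map (algebraMap A B))
      ((B ⧸ (IsLocalRing.maximalIdeal A).map (algebraMap A B)) ⊗[B] M) := by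
  classical
  set I := (IsLocalRing.maximalIdeal A).map (algebraMap A B) with hI
  have hkB : ∀ a ∈ IsLocalRing.maximalIdeal A, algebraMap A (B ⧸ I) a = 0 := by
    intro a ha
    rw [IsScalarTower.algebraMap_apply A B (B ⧸ I), Ideal.Quotient.algebraMap_eq,
      Ideal.Quotient.eq_zero_iff_mem]
    exact Ideal.mem_map_of_mem _ ha
  letI algCCb : Algebra C ((B ⧸ I) ⊗[B] C) := Algebra.TensorProduct.rightAlgebra
  have hAC : ∀ a : A, algebraMap A ((B ⧸ I) ⊗[B] C) a =
      algebraMap C ((B ⧸ I) ⊗[B] C) (algebraMap A C a) := by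
    intro a
    change (algebraMap A (B ⧸ I) a) ⊗ₜ[B] (1 : C) = (1 : B ⧸ I) ⊗ₜ[B] (algebraMap A C a)
    rw [IsScalarTower.algebraMap_apply A B C, IsScalarTower.algebraMap_apply A B (B ⧸ I),
      Algebra.algebraMap_eq_smul_one (algebraMap A B a),
      Algebra.algebraMap_eq_smul_one (A := C) (algebraMap A B a), TensorProduct.smul_tmul]
  haveI : IsScalarTower A C ((B ⧸ I) ⊗[B] C) := IsScalarTower.of_algebraMap_eq hAC
  have hkC : ∀ a ∈ IsLocalRing.maximalIdeal A, algebraMap A ((B ⧸ I) ⊗[B] C) a = 0 := by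
    intro a ha
    change (algebraMap A (B ⧸ I) a) ⊗ₜ[B] (1 : C) = 0
    rw [hkB a ha, TensorProduct.zero_tmul]
  have hsurjC : Surjective (algebraMap C ((B ⧸ I) ⊗[B] C)) := by
    intro t
    induction t using TensorProduct.induction_on with
    | zero => exact ⟨0, map_zero _⟩
    | tmul x c =>
      obtain ⟨b, rfl⟩ := Ideal.Quotient.mk_surjective x
      refine ⟨b • c, ?_⟩
      change (1 : B ⧸ I) ⊗ₜ[B] (b • c) = Ideal.Quotient.mk I b ⊗ₜ[B] c
      rw [← TensorProduct.smul_tmul, Algebra.smul_def, mul_one]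
      rfl
    | add x y hx hy =>
      obtain ⟨a, rfl⟩ := hx
      obtain ⟨b, rfl⟩ := hy
      exact ⟨a + b, map_add _ _ _⟩
  -- (1)
  haveI h1 : Module.Flat ((B ⧸ I) ⊗[B] C) (((B ⧸ I) ⊗[B] C) ⊗[C] C') :=
    flat_tensor_of_flat_productMap A' C C' ((B ⧸ I) ⊗[B] C) C' hkC hX
  -- (2)
  haveI h2 : Module.FaithfullyFlat ((B ⧸ I) ⊗[B] C) (((B ⧸ I) ⊗[B] C) ⊗[C] C') :=
    faithfullyFlat_tensor_of_isLocalHom hsurjC
  -- (3)
  haveI h3 : Module.Flat (B ⧸ I) ((B ⧸ I) ⊗[B] (C' ⊗[C] M)) :=
    flat_tensor_of_flat_productMap A' B B' (B ⧸ I) (C' ⊗[C] M) hkB hY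
  -- (4)
  let e1 := TensorProduct.AlgebraTensorModule.cancelBaseChange C ((B ⧸ I) ⊗[B] C)
    ((B ⧸ I) ⊗[B] C) (((B ⧸ I) ⊗[B] C) ⊗[C] C') M
  let e2 := TensorProduct.AlgebraTensorModule.assoc C C ((B ⧸ I) ⊗[B] C) ((B ⧸ I) ⊗[B] C) C' M
  let e3 := Algebra.IsPushout.cancelBaseChange B (B ⧸ I) C ((B ⧸ I) ⊗[B] C) (C' ⊗[C] M)
  haveI h4 : Module.Flat (B ⧸ I)
      ((((B ⧸ I) ⊗[B] C) ⊗[C] C') ⊗[(B ⧸ I) ⊗[B] C] (((B ⧸ I) ⊗[B] C) ⊗[C] M)) :=
    Module.Flat.of_linearEquiv (((e1 ≪≫ₗ e2).restrictScalars (B ⧸ I)) ≪≫ₗ e3)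
  -- (5)
  haveI h5 : Module.Flat (B ⧸ I) (((B ⧸ I) ⊗[B] C) ⊗[C] M) :=
    Groth.Agent.Lib.Helper10.PullbackStalk.flat_of_flat_tensor_of_faithfullyFlat (B ⧸ I)
      ((B ⧸ I) ⊗[B] C) (((B ⧸ I) ⊗[B] C) ⊗[C] C') (((B ⧸ I) ⊗[B] C) ⊗[C] M)
  -- (6)
  exact Module.Flat.of_linearEquiv
    (Algebra.IsPushout.cancelBaseChange B (B ⧸ I) C ((B ⧸ I) ⊗[B] C) M).symm

end Main

end Groth.Agent.Lib27.FibreBC
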