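import Mathlib
import Groth.Agent.Lib27.FibInj.UnivInj
import Groth.Agent.Lib27.Sch.LocalCore

/-!
# The fibrewise flatness criterion for modules (non-noetherian), from the fibrewise injectivity
criterion and the kernel lemma
-/

set_option autoImplicit false
set_option linter.style.haveILetI false
set_option linter.unusedSectionVars false

open TensorProduct Function

universe u

namespace Groth.Agent.Lib27.FibreCrit

open Groth.Agent.Lib27.FibInj

section G1

variable {R : Type*} [CommRing R] {X Y : Type*} [AddCommGroup X] [Module R X]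
  [AddCommGroup Y] [Module R Y]

/-- an injective map with flat cokernel is injective modulo every ideal. -/
theorem mem_smul_top_of_injective_of_flat (u : X →ₗ[R] Y) (hinj : Injective u)
    [Module.Flat R (Y ⧸ LinearMap.range u)] (I : Ideal R) (x : X)
    (hx : u x ∈ I • (⊤ : Submodule R Y)) : x ∈ I • (⊤ : Submodule R X) := by
  have h1 := lTensor_injective_of_flat_coker u hinj (R ⧸ I)
  have h5 : (1 : R ⧸ I) = Ideal.Quotient.mk I 1 := rfl
  have h2 : u.lTensor (R ⧸ I) ((1 : R ⧸ I) ⊗ₜ[R] x) = 0 := by
    rw [LinearMap.lTensor_tmul]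
    apply (TensorProduct.quotTensorEquivQuotSMul Y I).injective
    rw [h5, TensorProduct.quotTensorEquivQuotSMul_mk_tmul, one_smul, map_zero,
      Submodule.Quotient.mk_eq_zero]
    exact hx
  have h3 : (1 : R ⧸ I) ⊗ₜ[R] x = 0 := h1 (by rw [h2, map_zero])
  have h4 := congrArg (TensorProduct.quotTensorEquivQuotSMul X I) h3
  rw [h5, TensorProduct.quotTensorEquivQuotSMul_mk_tmul, one_smul, map_zero,
    Submodule.Quotient.mk_eq_zero] at h4
  exact h4

end G1

section Y

variable {R A : Type*} [CommRing R] [CommRing A] [Algebra R A]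
  {F M : Type*} [AddCommGroup F] [Module A F] [Module R F] [IsScalarTower R A F]
  [AddCommGroup M] [Module A M] [Module R M] [IsScalarTower R A M]

/-- the step over the base: `K ∩ I F = I K` when `F/K` is `R`-flat. -/
theorem mem_map_smul_ker_of_flat (π : F →ₗ[A] M) (hπ : Surjective π) [Module.Flat R M]
    (I : Ideal R) (z : LinearMap.ker π)
    (hz : (z : F) ∈ I.map (algebraMap R A) • (⊤ : Submodule A F)) :
    z ∈ I.map (algebraMap R A) • (⊤ : Submodule A (LinearMap.ker π)) := by
  have h4 := Ideal.smul_restrictScalars I (⊤ : Submodule A F)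
  rw [Submodule.restrictScalars_top] at h4
  have h4' := Ideal.smul_restrictScalars I (⊤ : Submodule A (LinearMap.ker π))
  rw [Submodule.restrictScalars_top] at h4'
  rw [← Submodule.restrictScalars_mem R, h4] at hz
  rw [← Submodule.restrictScalars_mem R, h4']
  let u : LinearMap.ker π →ₗ[R] F := (LinearMap.ker π).subtype.restrictScalars R
  have hu : Injective u := Subtype.val_injective
  have hrange : LinearMap.range u = LinearMap.ker (π.restrictScalars R) := by
    ext y
    constructor
    · rintro ⟨k, rfl⟩
      exact k.2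
    · intro hy
      exact ⟨⟨y, hy⟩, rfl⟩
  haveI : Module.Flat R (F ⧸ LinearMap.range u) :=
    Module.Flat.of_linearEquiv (Submodule.quotEquivOfEq _ _ hrange ≪≫ₗ
      (π.restrictScalars R).quotKerEquivOfSurjective hπ)
  exact mem_smul_top_of_injective_of_flat u hu I z hz

/-- **Key step**: if `M = F/K` is `R`-flat and `M/IM` is flat over `A/IA`, then
`K ∩ 𝔭 F = 𝔭 K` for every ideal `𝔭 ⊇ IA`. -/
theorem mem_smul_ker_of_fibre_flat (I : Ideal R) (𝔭 : Ideal A)
    (hI : I.map (algebraMap R A) ≤ 𝔭) (π : F →ₗ[A] M) (hπ : Surjective π) [Module.Flat R M]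
    (hfib : Module.Flat (A ⧸ I.map (algebraMap R A))
      (M ⧸ I.map (algebraMap R A) • (⊤ : Submodule A M)))
    (x : LinearMap.ker π) (hx : (x : F) ∈ 𝔭 • (⊤ : Submodule A F)) :
    x ∈ 𝔭 • (⊤ : Submodule A (LinearMap.ker π)) := by
  classical
  set J := I.map (algebraMap R A) with hJ
  -- write `x` as a finite sum
  have hx' : (x : F) ∈ 𝔭 • Submodule.span A (Set.range (id : F → F)) := by
    rw [Set.range_id, Submodule.span_univ]; exact hx
  rw [Submodule.mem_ideal_smul_span_iff_exists_sum] at hx'
  obtain ⟨a, ha, hsum⟩ := hx'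
  -- the relation in the fibre
  obtain ⟨ι, _, a', v, ha', hsum'⟩ : ∃ (ι : Type _) (_ : Fintype ι) (a' : ι → A) (v : ι → F),
      (∀ i, a' i ∈ 𝔭) ∧ ∑ i, a' i • v i = (x : F) := by
    refine ⟨a.support, inferInstance, fun i => a i, fun i => (i : F), fun i => ha _, ?_⟩
    rw [← hsum, Finsupp.sum]
    exact Finset.sum_coe_sort a.support (fun i => a i • i)
  let f : ι → A ⧸ J := fun i => Ideal.Quotient.mk J (a' i)
  let m : ι → M ⧸ J • (⊤ : Submodule A M) := fun i => Submodule.Quotient.mk (π (v i))
  have hrel : ∑ i, f i • m i = 0 := by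
    have h1 : ∀ i : ι, f i • m i =
        Submodule.Quotient.mk (p := J • (⊤ : Submodule A M)) (π (a' i • v i)) := by
      intro i
      rw [map_smul]
      rfl
    simp_rw [h1]
    have h3 : ∑ i : ι, Submodule.Quotient.mk (p := J • (⊤ : Submodule A M)) (π (a' i • v i)) =
        (J • (⊤ : Submodule A M)).mkQ (π (∑ i : ι, a' i • v i)) := by
      rw [map_sum, map_sum]
      rfl
    rw [h3, hsum', LinearMap.mem_ker.mp x.2, map_zero]
  haveI := hfib
  obtain ⟨k, bb, yy, hm, hb⟩ := Module.Flat.isTrivialRelation_of_sum_smul_eq_zero hrel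
  -- lifts
  choose b hbl using fun (i : ι) (j : Fin k) => Ideal.Quotient.mk_surjective (bb i j)
  have hg : ∀ j : Fin k, ∃ g : F, Submodule.Quotient.mk (p := J • (⊤ : Submodule A M)) (π g) =
      yy j := by
    intro j
    obtain ⟨y, hy⟩ := Submodule.Quotient.mk_surjective _ (yy j)
    obtain ⟨g, rfl⟩ := hπ y
    exact ⟨g, hy⟩
  choose g hgl using hg
  -- the error terms
  have he : ∀ i : ι, ∃ e ∈ J • (⊤ : Submodule A F), π (v i - ∑ j, b i j • g j - e) = 0 := by
    intro i
    have h1 : π (v i - ∑ j, b i j • g j) ∈ J • (⊤ : Submodule A M) := by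
      rw [← Submodule.Quotient.mk_eq_zero, map_sub, Submodule.Quotient.mk_sub]
      have := hm i
      change Submodule.Quotient.mk (π (v i)) = _ at this
      rw [this, sub_eq_zero]
      have h3 : Submodule.Quotient.mk (p := J • (⊤ : Submodule A M)) (π (∑ j, b i j • g j)) =
          ∑ j, (J • (⊤ : Submodule A M)).mkQ (π (b i j • g j)) := by
        rw [map_sum, ← Submodule.mkQ_apply, map_sum]
      rw [h3]
      refine Finset.sum_congr rfl fun j _ => ?_
      rw [Submodule.mkQ_apply, map_smul, ← hbl i j, ← hgl j]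
      rfl
    have h2 : J • (⊤ : Submodule A M) = (J • (⊤ : Submodule A F)).map π := by
      rw [Submodule.map_smul'', Submodule.map_top, LinearMap.range_eq_top.mpr hπ]
    rw [h2] at h1
    obtain ⟨e, he, hee⟩ := h1
    exact ⟨e, he, by rw [map_sub, hee, sub_self]⟩
  choose e heJ hek using he
  let kk : ι → LinearMap.ker π := fun i => ⟨v i - ∑ j, b i j • g j - e i, hek i⟩
  -- the coefficients `c j`
  have hc : ∀ j : Fin k, ∑ i, a' i * b i j ∈ J := by
    intro j
    rw [← Ideal.Quotient.eq_zero_iff_mem, map_sum]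
    have := hb j
    simp only [f] at this
    rw [← this]
    refine Finset.sum_congr rfl fun i _ => ?_
    rw [map_mul, hbl i j]
  -- the decomposition
  let z : LinearMap.ker π := x - ∑ i, a' i • kk i
  have hzval : (z : F) = ∑ j, (∑ i, a' i * b i j) • g j + ∑ i, a' i • e i := by
    simp only [z, kk, Submodule.coe_sub, Submodule.coe_sum, Submodule.coe_smul]
    rw [← hsum', ← Finset.sum_sub_distrib]
    simp_rw [Finset.sum_smul, mul_smul]
    rw [Finset.sum_comm, ← Finset.sum_add_distrib]
    refine Finset.sum_congr rfl fun i _ => ?_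
    rw [smul_sub, smul_sub, Finset.smul_sum]
    abel
  have hzJ : (z : F) ∈ J • (⊤ : Submodule A F) := by
    rw [hzval]
    refine Submodule.add_mem _ (Submodule.sum_mem _ fun j _ => ?_)
      (Submodule.sum_mem _ fun i _ => ?_)
    · exact Submodule.smul_mem_smul (hc j) Submodule.mem_top
    · exact Submodule.smul_mem _ _ (heJ i)
  have hz := mem_map_smul_ker_of_flat π hπ I z hzJ
  have hx2 : x = z + ∑ i, a' i • kk i := by simp [z]
  rw [hx2]
  refine Submodule.add_mem _ (Submodule.smul_mono hI le_rfl hz) (Submodule.sum_mem _ fun i _ => ?_)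
  exact Submodule.smul_mem_smul (ha' i) Submodule.mem_top

end Y

section X

open Groth.Agent.Lib27.LocalCore

variable (R : Type u) {A : Type u} [CommRing R] [CommRing A] [Algebra R A]
  {P : Type u} [CommRing P] [Algebra A P] (Q : Ideal P) [Q.IsPrime]
  (T : Type u) [CommRing T] [Algebra P T] [Algebra A T] [IsScalarTower A P T]
  [IsLocalization.AtPrime T Q] [Algebra R T] [IsScalarTower R A T]

/-- the kernel lemma for `R`-flat finitely presented `T`-modules. -/
def KL : Prop :=
  ∀ (X : Type u) [AddCommGroup X] [Module T X] [Module R X] [IsScalarTower R T X]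
    [Module.FinitePresentation T X] [Module.Flat R X] (r : ℕ) (π : (Fin r → T) →ₗ[T] X),
    Surjective π → Module.FinitePresentation T (LinearMap.ker π)

variable {R}

/-- **Fibrewise flatness criterion**: `T` a local ring of a flat finitely presented `A`-algebra
for which the kernel lemma over `R` holds; a finitely presented `T`-module which is `R`-flat and
whose reduction modulo `I` is flat over `A/IA` is flat over `A`. -/
theorem flat_of_fibre_flat [Algebra.FinitePresentation A P] [Module.Flat A P] (hKL : KL R T)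
    (I : Ideal R) (hI : I.map (algebraMap R A) ≤ Q.comap (algebraMap A P))
    {M : Type u} [AddCommGroup M] [Module T M] [Module A M] [Module R M] [IsScalarTower A T M]
    [IsScalarTower R T M] [IsScalarTower R A M] [Module.FinitePresentation T M] [Module.Flat R M]
    (hfib : Module.Flat (A ⧸ I.map (algebraMap R A))
      (M ⧸ I.map (algebraMap R A) • (⊤ : Submodule A M))) :
    Module.Flat A M := by
  obtain ⟨r, π, hπ⟩ := Module.Finite.exists_fin' T M
  haveI := hKL M r π hπ
  let u : LinearMap.ker π →ₗ[T] (Fin r → T) := (LinearMap.ker π).subtype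
  haveI : Module.Flat P T := IsLocalization.flat T Q.primeCompl
  haveI : Module.Flat A T := Module.Flat.trans A P T
  haveI : Module.Flat A (Fin r → T) := Module.Flat.trans A T _
  have hu : ∀ x : LinearMap.ker π, u x ∈ (fibIdeal (A := A) Q T) • (⊤ : Submodule T (Fin r → T)) →
      x ∈ (fibIdeal (A := A) Q T) • (⊤ : Submodule T (LinearMap.ker π)) := by
    intro x hx
    rw [mem_fibIdeal_smul_top_iff Q T] at hx ⊢
    let eK : LinearMap.ker (π.restrictScalars A) ≃ₗ[A] LinearMap.ker π :=
      { toFun := fun y => ⟨y.1, y.2⟩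
        invFun := fun y => ⟨y.1, y.2⟩
        map_add' := fun _ _ => rfl
        map_smul' := fun _ _ => rfl
        left_inv := fun _ => rfl
        right_inv := fun _ => rfl }
    have h1 := mem_smul_ker_of_fibre_flat I (Q.comap (algebraMap A P)) hI (π.restrictScalars A) hπ
      hfib (eK.symm x) hx
    have h2 := Submodule.mem_map_of_mem (f := eK.toLinearMap) h1
    rw [Submodule.map_smul'', Submodule.map_top, LinearEquiv.range] at h2
    have h3 : eK.toLinearMap (eK.symm x) = x := eK.apply_symm_apply x
    rw [h3] at h2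
    exact h2
  obtain ⟨_, hflat⟩ := fibInj (A := A) Q T u hu
  have hrange : LinearMap.range u = LinearMap.ker π := Submodule.range_subtype _
  exact Module.Flat.of_linearEquiv
    (((π.quotKerEquivOfSurjective hπ).symm ≪≫ₗ
      (Submodule.quotEquivOfEq _ _ hrange.symm)).restrictScalars A)

end X

end Groth.Agent.Lib27.FibreCrit
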