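import Mathlib
import Groth.Agent.Lib27.Resol2
import Groth.Agent.Lib27.PseudoCoh
import Groth.Agent.Lib27.Flat.KerFP
import Groth.Agent.Lib27.FibInj.UnivInj

/-!
# Finite free resolutions of finitely presented modules flat over the base
-/

set_option autoImplicit false
set_option linter.style.haveILetI false
set_option linter.unusedSectionVars false

universe u

open CategoryTheory CategoryTheory.Limits Function TensorProduct

namespace Groth.Agent.Lib27.FreeRes

open Groth.Agent.Lib27.Resol Groth.Agent.Lib27.PseudoCoh Groth.Agent.Lib27.FibInj

section FlatKer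

variable {A : Type u} [CommRing A] {F X : Type u} [AddCommGroup F] [Module A F]
  [AddCommGroup X] [Module A X]

/-- the kernel of a surjection of flat modules is flat. -/
theorem flat_ker_of_surjective (π : F →ₗ[A] X) (hπ : Surjective π) [Module.Flat A F]
    [Module.Flat A X] : Module.Flat A (LinearMap.ker π) := by
  set K := LinearMap.ker π with hK
  haveI : Module.Flat A (F ⧸ LinearMap.range K.subtype) :=
    Module.Flat.of_linearEquiv
      (Submodule.quotEquivOfEq _ _ (Submodule.range_subtype K) ≪≫ₗ
        π.quotKerEquivOfSurjective hπ)
  rw [Module.Flat.iff_lTensor_preserves_injective_linearMap]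
  intro N N' _ _ _ _ f hf
  have h1 : Injective (K.subtype.rTensor N) := by
    rw [← LinearMap.lTensor_inj_iff_rTensor_inj]
    exact lTensor_injective_of_flat_coker K.subtype (Submodule.injective_subtype K) N
  have h2 : Injective (f.lTensor F) :=
    Module.Flat.lTensor_preserves_injective_linearMap _ hf
  have hcomm : (K.subtype.rTensor N') ∘ₗ (f.lTensor K) =
      (f.lTensor F) ∘ₗ (K.subtype.rTensor N) := by
    ext k n
    rfl
  have h3 : Injective ((K.subtype.rTensor N') ∘ₗ (f.lTensor K)) := by
    rw [hcomm]
    exact h2.comp h1
  exact Function.Injective.of_comp h3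

/-- variant for a linear map over an algebra. -/
theorem flat_ker_of_surjective' {B : Type u} [CommRing B] [Algebra A B] [Module B F] [Module B X]
    [IsScalarTower A B F] [IsScalarTower A B X] (π : F →ₗ[B] X) (hπ : Surjective π)
    [Module.Flat A F] [Module.Flat A X] : Module.Flat A (LinearMap.ker π) := by
  haveI := flat_ker_of_surjective (π.restrictScalars A) hπ
  let e : ↥(LinearMap.ker π) ≃ₗ[A] ↥(LinearMap.ker (π.restrictScalars A)) :=
    { toFun := fun x => ⟨x.1, x.2⟩
      invFun := fun y => ⟨y.1, y.2⟩
      map_add' := fun _ _ => rfl
      map_smul' := fun _ _ => rfl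
      left_inv := fun _ => rfl
      right_inv := fun _ => rfl }
  exact Module.Flat.of_linearEquiv e

end FlatKer

variable (A B : Type u) [CommRing A] [CommRing B] [Algebra A B]

/-- the class of finitely presented `B`-modules flat over `A`. -/
def Q [Algebra A B] (N : ModuleCat.{u} B) : Prop :=
  Module.FinitePresentation B N ∧ @Module.Flat A N _ _ (Module.compHom N (algebraMap A B))

variable {A B}

lemma flat_compHom_iff {N : Type u} [AddCommGroup N] [Module B N] [Module A N]
    [IsScalarTower A B N] :
    @Module.Flat A N _ _ (Module.compHom N (algebraMap A B)) ↔ Module.Flat A N := by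
  have : (Module.compHom N (algebraMap A B)) = ‹Module A N› := by
    apply Module.ext'
    intro a x
    exact algebraMap_smul B a x
  rw [this]

variable (A B)

lemma good2 [Algebra.FinitePresentation A B] [Module.Flat A B] :
    (cover B).Good2 (Q A B) where
  iso {X Y} e h := by
    obtain ⟨h1, h2⟩ := h
    letI : Module A X := Module.compHom X (algebraMap A B)
    letI : Module A Y := Module.compHom Y (algebraMap A B)
    haveI : IsScalarTower A B X := IsScalarTower.of_algebraMap_smul fun _ _ => rfl
    haveI : IsScalarTower A B Y := IsScalarTower.of_algebraMap_smul fun _ _ => rfl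
    haveI : Module.Flat A X := h2
    exact ⟨Module.FinitePresentation.of_equiv e.toLinearEquiv,
      Module.Flat.of_linearEquiv (e.symm.toLinearEquiv.restrictScalars A)⟩
  epi N hN := by
    haveI := hN.1
    exact (ModuleCat.epi_iff_surjective _).2 (pres_surjective B N inferInstance)
  kerπ X hX := by
    obtain ⟨h1, h2⟩ := hX
    haveI := h1
    letI : Module A X := Module.compHom X (algebraMap A B)
    haveI : IsScalarTower A B X := IsScalarTower.of_algebraMap_smul fun _ _ => rfl
    haveI : Module.Flat A X := h2
    have hsurj : Surjective (pres B X).2 := pres_surjective B X inferInstance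
    have e : kernel ((cover B).π X) ≅ ModuleCat.of B (LinearMap.ker (pres B X).2) :=
      ModuleCat.kernelIsoKer _
    haveI hfp : Module.FinitePresentation B (LinearMap.ker (pres B X).2) :=
      Groth.Agent.Lib27.KerFP.finitePresentation_ker_of_flat (A := A) (D := B) (pres B X).2 hsurj
    haveI : Module.Flat A (Fin (pres B X).1 → B) := Module.Flat.trans A B _
    haveI hfl : Module.Flat A (LinearMap.ker (pres B X).2) :=
      flat_ker_of_surjective' (pres B X).2 hsurj
    letI : Module A (kernel ((cover B).π X) : ModuleCat.{u} B) :=
      Module.compHom _ (algebraMap A B)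
    haveI : IsScalarTower A B (kernel ((cover B).π X) : ModuleCat.{u} B) :=
      IsScalarTower.of_algebraMap_smul fun _ _ => rfl
    have e' : (kernel ((cover B).π X) : ModuleCat.{u} B) ≃ₗ[B] LinearMap.ker (pres B X).2 :=
      e.toLinearEquiv
    exact ⟨Module.FinitePresentation.of_equiv e'.symm,
      Module.Flat.of_linearEquiv (e'.restrictScalars A)⟩

/-- the resolution. -/
theorem exists_finite_free_resolution [Algebra.FinitePresentation A B] [Module.Flat A B]
    (M : Type u) [AddCommGroup M] [Module B M] [Module A M] [IsScalarTower A B M]
    [Module.FinitePresentation B M] [Module.Flat A M] :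
    ∃ P : ProjectiveResolution (ModuleCat.of B M),
      ∀ n : ℕ, Module.Finite B (P.complex.X n) ∧ Module.Free B (P.complex.X n) := by
  have hgood := good2 A B
  have hM : Q A B (ModuleCat.of B M) :=
    ⟨inferInstanceAs (Module.FinitePresentation B M), flat_compHom_iff.mpr ‹_›⟩
  have hff : ∀ n, Module.Finite B (((cover B).complex (ModuleCat.of B M)).X n) ∧
      Module.Free B (((cover B).complex (ModuleCat.of B M)).X n) := by
    intro n
    obtain ⟨Y, ⟨e⟩⟩ := Cover.exists_X_iso_cov (D := cover B) (ModuleCat.of B M) n
    exact finite_free_of_iso_cov e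
  refine ⟨{ complex := (cover B).complex (ModuleCat.of B M)
            projective := fun n => by
              have := (hff n).2
              infer_instance
            π := (cover B).aug (ModuleCat.of B M)
            quasiIso := Cover.quasiIso_aug2 hgood _ hM }, hff⟩

end Groth.Agent.Lib27.FreeRes
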