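import Mathlib
import Groth.Agent.Lib27.Flat.FreeRes
import Groth.Agent.Lib27.FibInj.Concl
import Groth.Agent.Lib.Helper2.TorBalance

/-!
# Syzygies of finitely presented modules flat over the base; projective dimension = Tor-dimension
-/

set_option autoImplicit false
set_option linter.style.haveILetI false
set_option linter.unusedSectionVars false

universe u

open CategoryTheory CategoryTheory.Limits Function TensorProduct MonoidalCategory

namespace Groth.Agent.Lib27.Syz

open Groth.Agent.Lib27.Resol Groth.Agent.Lib27.PseudoCoh Groth.Agent.Lib27.FibInj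
  Groth.Agent.Lib27.FreeRes Groth.Agent.Lib.Helper2.TorBalance Groth.Agent.Lib.Helper4
  Groth.Agent.Lib.Helper21

variable (A B : Type u) [CommRing A] [CommRing B] [Algebra A B]

/-- iterated syzygies with respect to the chosen finite free covers. -/
noncomputable def syz (M : ModuleCat.{u} B) : ℕ → ModuleCat.{u} B
  | 0 => M
  | n + 1 => kernel ((cover B).π (syz M n))

/-- the short complex `syz (n+1) → cov (syz n) → syz n`. -/
noncomputable def sc (M : ModuleCat.{u} B) (n : ℕ) : ShortComplex (ModuleCat.{u} B) :=
  ShortComplex.mk (kernel.ι ((cover B).π (syz B M n))) ((cover B).π (syz B M n))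
    (kernel.condition _)

variable {B}

instance flat_cov (X : ModuleCat.{u} B) : Module.Flat B ((cover B).cov X) :=
  inferInstanceAs (Module.Flat B (Fin (pres B X).1 → B))

instance free_cov (X : ModuleCat.{u} B) : Module.Free B ((cover B).cov X) :=
  inferInstanceAs (Module.Free B (Fin (pres B X).1 → B))

instance projective_cov (X : ModuleCat.{u} B) : Projective ((cover B).cov X) :=
  ModuleCat.projective_of_categoryTheory_projective _

variable [Algebra.FinitePresentation A B] [Module.Flat A B]

lemma Q_syz {M : ModuleCat.{u} B} (hM : Q A B M) : ∀ n, Q A B (syz B M n)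
  | 0 => hM
  | n + 1 => (good2 A B).kerπ _ (Q_syz hM n)

lemma sc_shortExact {M : ModuleCat.{u} B} (hM : Q A B M) (n : ℕ) : (sc B M n).ShortExact where
  exact := ShortComplex.exact_kernel _
  mono_f := by dsimp [sc]; infer_instance
  epi_g := (good2 A B).epi _ (Q_syz A hM n)

/-- dimension shifting for the projective dimension. -/
lemma hasProjectiveDimensionLT_iff_projective_syz {M : ModuleCat.{u} B} (hM : Q A B M) :
    ∀ (k j : ℕ), HasProjectiveDimensionLT (syz B M j) (k + 1) ↔ Projective (syz B M (j + k))
  | 0, j => projective_iff_hasProjectiveDimensionLT_one.symm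
  | k + 1, j => by
    have h1 := (sc_shortExact A hM j).hasProjectiveDimensionLT_X₃_iff k
      (inferInstanceAs (Projective ((cover B).cov (syz B M j))))
    have h2 := hasProjectiveDimensionLT_iff_projective_syz hM k (j + 1)
    have e : j + 1 + k = j + (k + 1) := by omega
    rw [e] at h2
    exact h1.trans h2

/-- all higher `Tor` against every module vanish from degree `m` on. -/
def TorVanish (X : ModuleCat.{u} B) (m : ℕ) : Prop :=
  ∀ i : ℕ, m ≤ i → ∀ N : ModuleCat.{u} B, IsZero (((Tor (ModuleCat.{u} B) i).obj X).obj N)

lemma torVanish_shift {M : ModuleCat.{u} B} (hM : Q A B M) (j m : ℕ) :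
    TorVanish (syz B M j) (m + 2) ↔ TorVanish (syz B M (j + 1)) (m + 1) := by
  have hS := sc_shortExact A hM j
  have hz : ∀ (i : ℕ) (N : ModuleCat.{u} B), 0 < i →
      IsZero (((Tor (ModuleCat.{u} B) i).obj (sc B M j).X₂).obj N) := fun i N hi =>
    haveI : Module.Flat B ((cover B).cov (syz B M j)) := flat_cov _
    isZero_tor_of_flat ((cover B).cov (syz B M j)) N i hi
  constructor
  · intro h i hi N
    obtain ⟨n, rfl⟩ : ∃ n, i = n + 1 := ⟨i - 1, by omega⟩
    obtain ⟨e⟩ := tor_succ_iso (sc B M j) N hS (n + 1) (hz _ N (by omega)) (hz _ N (by omega))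
    exact (h (n + 1 + 1) (by omega) N).of_iso e.symm
  · intro h i hi N
    obtain ⟨n, rfl⟩ : ∃ n, i = n + 1 + 1 := ⟨i - 2, by omega⟩
    obtain ⟨e⟩ := tor_succ_iso (sc B M j) N hS (n + 1) (hz _ N (by omega)) (hz _ N (by omega))
    exact (h (n + 1) (by omega) N).of_iso e

lemma torVanish_iff_syz {M : ModuleCat.{u} B} (hM : Q A B M) :
    ∀ (k j : ℕ), TorVanish (syz B M j) (k + 1) ↔ TorVanish (syz B M (j + k)) 1
  | 0, j => Iff.rfl
  | k + 1, j => by
    have h1 := torVanish_shift A hM j k
    have h2 := torVanish_iff_syz hM k (j + 1)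
    have e : j + 1 + k = j + (k + 1) := by omega
    rw [e] at h2
    exact h1.trans h2

/-- `Tor₁`-vanishing against all modules for a syzygy means projectivity. -/
lemma torVanish_one_iff_projective {M : ModuleCat.{u} B} (hM : Q A B M) (j : ℕ) :
    TorVanish (syz B M j) 1 ↔ Projective (syz B M j) := by
  constructor
  · intro h
    have hS := sc_shortExact A hM j
    have hinj : ∀ N : ModuleCat.{u} B, Injective ((sc B M j).f.hom.rTensor N) := fun N =>
      injective_rTensor_of_isZero_tor_one (sc B M j) N hS (h 1 le_rfl N)
    -- flatness of the cokernel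
    haveI : Module.Flat B (sc B M j).X₂ := flat_cov _
    have key := injective_and_flat_of_forall_mem (R := B) (sc B M j).f.hom (by
      intro I _ x hx
      have h1 := hinj (ModuleCat.of B (B ⧸ I))
      have h2 : ((sc B M j).f.hom.rTensor (B ⧸ I)) (x ⊗ₜ[B] (1 : B ⧸ I)) = 0 := by
        rw [LinearMap.rTensor_tmul]
        apply (TensorProduct.tensorQuotEquivQuotSMul _ I).injective
        have h5 : (1 : B ⧸ I) = Ideal.Quotient.mk I 1 := rfl
        rw [h5, TensorProduct.tensorQuotEquivQuotSMul_tmul_mk, one_smul, map_zero,
          Submodule.Quotient.mk_eq_zero]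
        exact hx
      have h3 : x ⊗ₜ[B] (1 : B ⧸ I) = 0 := h1 (by rw [h2, map_zero])
      have h4 := congrArg (TensorProduct.tensorQuotEquivQuotSMul _ I) h3
      have h5 : (1 : B ⧸ I) = Ideal.Quotient.mk I 1 := rfl
      rw [h5, TensorProduct.tensorQuotEquivQuotSMul_tmul_mk, one_smul, map_zero,
        Submodule.Quotient.mk_eq_zero] at h4
      exact h4)
    -- the cokernel is the syzygy
    have hsurj : Surjective (sc B M j).g.hom :=
      (ModuleCat.epi_iff_surjective _).mp hS.epi_g
    have hker : LinearMap.range (sc B M j).f.hom = LinearMap.ker (sc B M j).g.hom := by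
      have hex := (ShortComplex.ShortExact.moduleCat_exact_iff_function_exact _).mp hS.exact
      exact (LinearMap.exact_iff.mp hex).symm
    haveI : Module.Flat B (syz B M j) := by
      haveI := key.2
      exact Module.Flat.of_linearEquiv
        ((Submodule.quotEquivOfEq _ _ hker ≪≫ₗ
          (sc B M j).g.hom.quotKerEquivOfSurjective hsurj).symm)
    haveI : Module.FinitePresentation B (syz B M j) := (Q_syz A hM j).1
    haveI : Module.Projective B (syz B M j) := Module.Flat.projective_of_finitePresentation
    exact ModuleCat.projective_of_categoryTheory_projective _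
  · intro h i hi N
    haveI : Projective (syz B M j) := h
    haveI : Module.Projective B (syz B M j) := ModuleCat.projective_of_module_projective _
    exact isZero_tor_of_flat _ N i (by omega)

end Groth.Agent.Lib27.Syz
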