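import Mathlib
import Groth.Agent.Lib27.Flat.Syz
import Groth.Agent.Lib27.FibInj.FibProj

/-!
# Projective dimension of a f.p. module flat over the base: supremum over the fibres
-/

set_option autoImplicit false
set_option linter.style.haveILetI false
set_option linter.unusedSectionVars false

universe u

open CategoryTheory CategoryTheory.Limits Function TensorProduct

namespace Groth.Agent.Lib27.PdFibre

open Groth.Agent.Lib27.Resol Groth.Agent.Lib27.PseudoCoh Groth.Agent.Lib27.FibInj
  Groth.Agent.Lib27.FreeRes Groth.Agent.Lib27.Syz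

section Generic

variable {C : Type*} [Category C] [Abelian C]

/-- dimension shifting along a sequence of syzygy sequences with projective middle terms. -/
theorem hasProjectiveDimensionLT_iff_projective (Z : ℕ → C) (S : ℕ → ShortComplex C)
    (hS : ∀ j, (S j).ShortExact) (hP : ∀ j, Projective (S j).X₂)
    (e₁ : ∀ j, (S j).X₁ ≅ Z (j + 1)) (e₃ : ∀ j, (S j).X₃ ≅ Z j) :
    ∀ (k j : ℕ), HasProjectiveDimensionLT (Z j) (k + 1) ↔ Projective (Z (j + k))
  | 0, j => projective_iff_hasProjectiveDimensionLT_one.symm
  | k + 1, j => by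
    have h1 := (hS j).hasProjectiveDimensionLT_X₃_iff k (hP j)
    have h2 := hasProjectiveDimensionLT_iff_projective Z S hS hP e₁ e₃ k (j + 1)
    have e : j + 1 + k = j + (k + 1) := by omega
    rw [e] at h2
    refine ⟨fun h => ?_, fun h => ?_⟩
    · haveI := h
      haveI : HasProjectiveDimensionLT (S j).X₃ (k + 2) :=
        hasProjectiveDimensionLT_of_iso (e₃ j).symm _
      haveI := h1.mp inferInstance
      exact h2.mp (hasProjectiveDimensionLT_of_iso (e₁ j) _)
    · haveI := h2.mpr h
      haveI : HasProjectiveDimensionLT (S j).X₁ (k + 1) :=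
        hasProjectiveDimensionLT_of_iso (e₁ j).symm _
      haveI := h1.mpr inferInstance
      exact hasProjectiveDimensionLT_of_iso (e₃ j) _

end Generic

section Order

/-- an element of `WithBot ℕ∞` is determined by the naturals above it. -/
lemma eq_iSup_of_forall_lt_iff {ι : Type*} (a : WithBot ℕ∞) (f : ι → WithBot ℕ∞)
    (h : ∀ k : ℕ, a < (k : WithBot ℕ∞) ↔ ∀ i, f i < (k : WithBot ℕ∞)) : a = ⨆ i, f i := by
  have hs : ∀ k : ℕ, (⨆ i, f i) < (k : WithBot ℕ∞) ↔ ∀ i, f i < (k : WithBot ℕ∞) := by
    intro k
    constructor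
    · intro hk i
      exact lt_of_le_of_lt (le_iSup f i) hk
    · intro hk
      rcases Nat.eq_zero_or_pos k with rfl | hpos
      · have : ∀ i, f i = ⊥ := fun i => by
          have := hk i
          rwa [Nat.cast_zero, WithBot.lt_zero_iff_eq_bot] at this
        have h2 : (⨆ i, f i) = ⊥ := by
          rw [iSup_eq_bot]
          exact this
        rw [h2, Nat.cast_zero]
        exact WithBot.bot_lt_coe _
      · obtain ⟨k', rfl⟩ : ∃ k', k = k' + 1 := ⟨k - 1, by omega⟩
        have h2 : (⨆ i, f i) ≤ (k' : WithBot ℕ∞) := by
          refine iSup_le fun i => ?_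
          have := hk i
          rwa [Nat.cast_add, Nat.cast_one, ENat.WithBot.lt_add_one_iff] at this
        rw [Nat.cast_add, Nat.cast_one, ENat.WithBot.lt_add_one_iff]
        exact h2
  set s := ⨆ i, f i with hsdef
  have key : ∀ k : ℕ, a < (k : WithBot ℕ∞) ↔ s < (k : WithBot ℕ∞) := fun k =>
    (h k).trans (hs k).symm
  -- conclude by cases
  have aux : ∀ x y : WithBot ℕ∞, (∀ k : ℕ, x < (k : WithBot ℕ∞) ↔ y < (k : WithBot ℕ∞)) →
      x ≤ y := by
    intro x y hxy
    induction y with
    | bot =>
      have := (hxy 0).mpr (by rw [Nat.cast_zero]; exact WithBot.bot_lt_coe _)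
      rw [Nat.cast_zero, WithBot.lt_zero_iff_eq_bot] at this
      rw [this]
    | coe y =>
      induction y with
      | top => exact le_top
      | coe n =>
        have h1 : ((n : ℕ∞) : WithBot ℕ∞) < ((n + 1 : ℕ) : WithBot ℕ∞) := by
          exact_mod_cast Nat.lt_succ_self n
        have := (hxy (n + 1)).mpr h1
        rw [Nat.cast_add, Nat.cast_one, ENat.WithBot.lt_add_one_iff] at this
        exact this
  exact le_antisymm (aux a s key) (aux s a fun k => (key k).symm)

end Order

section Fibre

variable (A : Type u) {B : Type u} [CommRing A] [CommRing B] [Algebra A B] (p : PrimeSpectrum A)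

/-- the comparison `(B ⊗ κ) ⊗_B X ≃ X ⊗_A κ`. -/
noncomputable def psi (X : Type u) [AddCommGroup X] [Module B X] [Module A X]
    [IsScalarTower A B X] :
    ((B ⊗[A] p.asIdeal.ResidueField) ⊗[B] X) ≃ₗ[B] X ⊗[A] p.asIdeal.ResidueField :=
  TensorProduct.comm B (B ⊗[A] p.asIdeal.ResidueField) X ≪≫ₗ
    TensorProduct.AlgebraTensorModule.cancelBaseChange A B B X p.asIdeal.ResidueField

lemma psi_tmul (X : Type u) [AddCommGroup X] [Module B X] [Module A X] [IsScalarTower A B X]
    (b : B) (c : p.asIdeal.ResidueField) (x : X) :
    psi A p X ((b ⊗ₜ[A] c) ⊗ₜ[B] x) = (b • x) ⊗ₜ[A] c := by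
  simp only [psi, LinearEquiv.trans_apply, TensorProduct.comm_tmul,
    TensorProduct.AlgebraTensorModule.cancelBaseChange_tmul]

variable {X Y : Type u} [AddCommGroup X] [Module B X] [Module A X] [IsScalarTower A B X]
  [AddCommGroup Y] [Module B Y] [Module A Y] [IsScalarTower A B Y]

lemma psi_naturality (f : X →ₗ[B] Y) (z : (B ⊗[A] p.asIdeal.ResidueField) ⊗[B] X) :
    psi A p Y (f.baseChange (B ⊗[A] p.asIdeal.ResidueField) z) =
      (f.restrictScalars A).rTensor p.asIdeal.ResidueField (psi A p X z) := by
  induction z using TensorProduct.induction_on with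
  | zero => simp
  | add z₁ z₂ h₁ h₂ => simp only [map_add, h₁, h₂]
  | tmul w x =>
    induction w using TensorProduct.induction_on with
    | zero => simp
    | add w₁ w₂ h₁ h₂ => simp only [TensorProduct.add_tmul, map_add, h₁, h₂]
    | tmul b c =>
      rw [LinearMap.baseChange_tmul, psi_tmul, psi_tmul, LinearMap.rTensor_tmul,
        LinearMap.restrictScalars_apply, map_smul]

/-- base change to the fibre ring preserves injectivity of maps with `A`-flat cokernel. -/
theorem baseChange_injective_of_flat_coker (f : X →ₗ[B] Y) (hf : Injective f)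
    [Module.Flat A (Y ⧸ LinearMap.range (f.restrictScalars A))] :
    Injective (f.baseChange (B ⊗[A] p.asIdeal.ResidueField)) := by
  have h1 : Injective ((f.restrictScalars A).rTensor p.asIdeal.ResidueField) := by
    rw [← LinearMap.lTensor_inj_iff_rTensor_inj]
    exact lTensor_injective_of_flat_coker (f.restrictScalars A) hf p.asIdeal.ResidueField
  intro z₁ z₂ h
  apply (psi A p X).injective
  apply h1
  rw [← psi_naturality, ← psi_naturality, h]

end Fibre

section FibreCat

variable (A : Type u) {B : Type u} [CommRing A] [CommRing B] [Algebra A B] (p : PrimeSpectrum A)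

/-- the fibre of a `B`-module over `p`. -/
noncomputable abbrev fib (X : ModuleCat.{u} B) :
    ModuleCat.{u} (B ⊗[A] p.asIdeal.ResidueField) :=
  ModuleCat.of (B ⊗[A] p.asIdeal.ResidueField) ((B ⊗[A] p.asIdeal.ResidueField) ⊗[B] X)

/-- the induced map on fibres. -/
noncomputable abbrev fibMap {X Y : ModuleCat.{u} B} (f : X ⟶ Y) : fib A p X ⟶ fib A p Y :=
  ModuleCat.ofHom (f.hom.baseChange (B ⊗[A] p.asIdeal.ResidueField))

/-- the fibre of the syzygy sequence. -/
noncomputable def fsc (M : ModuleCat.{u} B) (j : ℕ) :
    ShortComplex (ModuleCat.{u} (B ⊗[A] p.asIdeal.ResidueField)) :=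
  ShortComplex.mk (fibMap A p (sc B M j).f) (fibMap A p (sc B M j).g) (by
    have h0 : (sc B M j).g.hom ∘ₗ (sc B M j).f.hom = 0 := by
      have := (sc B M j).zero
      exact congrArg ModuleCat.Hom.hom this
    apply ModuleCat.hom_ext
    change ((sc B M j).g.hom.baseChange (B ⊗[A] p.asIdeal.ResidueField) ∘ₗ
      (sc B M j).f.hom.baseChange (B ⊗[A] p.asIdeal.ResidueField)) = 0
    rw [← LinearMap.baseChange_comp, h0, LinearMap.baseChange_zero])

variable [Algebra.FinitePresentation A B] [Module.Flat A B]

lemma fsc_shortExact {M : ModuleCat.{u} B} (hM : Q A B M) (j : ℕ) : (fsc A p M j).ShortExact := by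
  have hS := sc_shortExact A hM j
  have hsurj : Surjective (sc B M j).g.hom := (ModuleCat.epi_iff_surjective _).mp hS.epi_g
  have hinj : Injective (sc B M j).f.hom := (ModuleCat.mono_iff_injective _).mp hS.mono_f
  have hex : Function.Exact (sc B M j).f.hom (sc B M j).g.hom :=
    (ShortComplex.ShortExact.moduleCat_exact_iff_function_exact _).mp hS.exact
  refine ModuleCat.shortComplex_shortExact _ ?_ ?_ ?_
  · change Function.Exact ((sc B M j).f.hom.baseChange (B ⊗[A] p.asIdeal.ResidueField))
      ((sc B M j).g.hom.baseChange (B ⊗[A] p.asIdeal.ResidueField))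
    rw [LinearMap.baseChange_eq_ltensor, LinearMap.baseChange_eq_ltensor]
    exact lTensor_exact _ hex hsurj
  · change Injective ((sc B M j).f.hom.baseChange (B ⊗[A] p.asIdeal.ResidueField))
    letI : Module A (sc B M j).X₁ := Module.compHom _ (algebraMap A B)
    letI : Module A (sc B M j).X₂ := Module.compHom _ (algebraMap A B)
    letI : Module A (sc B M j).X₃ := Module.compHom _ (algebraMap A B)
    haveI : IsScalarTower A B (sc B M j).X₁ := IsScalarTower.of_algebraMap_smul fun _ _ => rfl
    haveI : IsScalarTower A B (sc B M j).X₂ := IsScalarTower.of_algebraMap_smul fun _ _ => rfl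
    haveI : IsScalarTower A B (sc B M j).X₃ := IsScalarTower.of_algebraMap_smul fun _ _ => rfl
    haveI : Module.Flat A (sc B M j).X₃ := (Q_syz A hM j).2
    have hker : LinearMap.range ((sc B M j).f.hom.restrictScalars A) =
        LinearMap.ker ((sc B M j).g.hom.restrictScalars A) := by
      ext y
      exact (hex y).symm
    haveI : Module.Flat A ((sc B M j).X₂ ⧸
        LinearMap.range ((sc B M j).f.hom.restrictScalars A)) :=
      Module.Flat.of_linearEquiv (Submodule.quotEquivOfEq _ _ hker ≪≫ₗ
        ((sc B M j).g.hom.restrictScalars A).quotKerEquivOfSurjective hsurj)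
    exact baseChange_injective_of_flat_coker A p (sc B M j).f.hom hinj
  · change Surjective ((sc B M j).g.hom.baseChange (B ⊗[A] p.asIdeal.ResidueField))
    rw [LinearMap.baseChange_eq_ltensor]
    exact LinearMap.lTensor_surjective _ hsurj

lemma projective_fsc_X₂ (M : ModuleCat.{u} B) (j : ℕ) : Projective (fsc A p M j).X₂ := by
  haveI : Module.Free (B ⊗[A] p.asIdeal.ResidueField)
      ((B ⊗[A] p.asIdeal.ResidueField) ⊗[B] (Fin (pres B (syz B M j)).1 → B)) := inferInstance
  exact ModuleCat.projective_of_categoryTheory_projective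
    (ModuleCat.of (B ⊗[A] p.asIdeal.ResidueField)
      ((B ⊗[A] p.asIdeal.ResidueField) ⊗[B] (Fin (pres B (syz B M j)).1 → B)))

/-- dimension shifting on the fibre. -/
lemma fib_hasProjectiveDimensionLT_iff {M : ModuleCat.{u} B} (hM : Q A B M) (k : ℕ) :
    HasProjectiveDimensionLT (fib A p M) (k + 1) ↔ Projective (fib A p (syz B M k)) := by
  have := hasProjectiveDimensionLT_iff_projective (fun j => fib A p (syz B M j))
    (fun j => fsc A p M j) (fun j => fsc_shortExact A p hM j)
    (fun j => projective_fsc_X₂ A p M j) (fun j => Iso.refl _) (fun j => Iso.refl _) k 0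
  rw [Nat.zero_add] at this
  exact this

end FibreCat

section Main

variable (A : Type u) {B : Type u} [CommRing A] [CommRing B] [Algebra A B]
  [Algebra.FinitePresentation A B] [Module.Flat A B]

/-- a finitely presented `A`-flat `B`-module is projective iff all its fibres are. -/
theorem projective_iff_forall_fib {X : ModuleCat.{u} B} (hX : Q A B X) :
    Projective X ↔ ∀ p : PrimeSpectrum A, Projective (fib A p X) := by
  constructor
  · intro h p
    haveI : Module.Projective B X := ModuleCat.projective_of_module_projective _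
    haveI : Module.Projective (B ⊗[A] p.asIdeal.ResidueField)
        ((B ⊗[A] p.asIdeal.ResidueField) ⊗[B] X) := inferInstance
    exact ModuleCat.projective_of_categoryTheory_projective
      (ModuleCat.of (B ⊗[A] p.asIdeal.ResidueField) ((B ⊗[A] p.asIdeal.ResidueField) ⊗[B] X))
  · intro h
    obtain ⟨h1, h2⟩ := hX
    haveI := h1
    letI : Module A X := Module.compHom X (algebraMap A B)
    haveI : IsScalarTower A B X := IsScalarTower.of_algebraMap_smul fun _ _ => rfl
    haveI : Module.Flat A X := h2
    haveI : Module.Flat B X := by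
      refine Module.flat_of_isLocalized_maximal B X (fun P _ => LocalizedModule P.primeCompl X)
        (fun P _ => LocalizedModule.mkLinearMap P.primeCompl X) ?_
      intro P hP
      have hp := h ⟨P.comap (algebraMap A B), inferInstance⟩
      haveI : Projective (ModuleCat.of (B ⊗[A] (P.comap (algebraMap A B)).ResidueField)
          ((B ⊗[A] (P.comap (algebraMap A B)).ResidueField) ⊗[B] X)) := hp
      have hproj : Module.Projective (B ⊗[A] (P.comap (algebraMap A B)).ResidueField)
          ((B ⊗[A] (P.comap (algebraMap A B)).ResidueField) ⊗[B] X) :=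
        ModuleCat.projective_of_module_projective
          (ModuleCat.of (B ⊗[A] (P.comap (algebraMap A B)).ResidueField)
            ((B ⊗[A] (P.comap (algebraMap A B)).ResidueField) ⊗[B] X))
      exact flat_localizedModule_of_fibre_projective P X hproj
    haveI : Module.Projective B X := Module.Flat.projective_of_finitePresentation
    exact ModuleCat.projective_of_categoryTheory_projective _

omit [Algebra.FinitePresentation A B] [Module.Flat A B] in
/-- a finite `B`-module is zero iff all its fibres over `A` are. -/
theorem isZero_iff_forall_fib (X : ModuleCat.{u} B) [Module.Finite B X] :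
    IsZero X ↔ ∀ p : PrimeSpectrum A, IsZero (fib A p X) := by
  constructor
  · intro h p
    haveI : Subsingleton X := ModuleCat.subsingleton_of_isZero h
    haveI : Subsingleton ((B ⊗[A] p.asIdeal.ResidueField) ⊗[B] X) := inferInstance
    exact ModuleCat.isZero_of_subsingleton _
  · intro h
    by_contra hne
    have hnt : ¬ Subsingleton X := fun hs => hne (ModuleCat.isZero_of_subsingleton _)
    have hsupp : (Module.support B X).Nonempty := by
      rw [Set.nonempty_iff_ne_empty, Ne, Module.support_eq_empty_iff]
      exact hnt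
    obtain ⟨q, hq⟩ := hsupp
    rw [Module.mem_support_iff_nontrivial_residueField_tensorProduct] at hq
    -- the prime of `A` below `q`
    let p : PrimeSpectrum A := ⟨q.asIdeal.comap (algebraMap A B), inferInstance⟩
    have hfib : Subsingleton ((B ⊗[A] p.asIdeal.ResidueField) ⊗[B] X) :=
      ModuleCat.subsingleton_of_isZero (h p)
    let ρ : p.asIdeal.ResidueField →ₐ[A] q.asIdeal.ResidueField :=
      Ideal.ResidueField.mapₐ p.asIdeal q.asIdeal (Algebra.ofId A B) rfl
    let φ : (B ⊗[A] p.asIdeal.ResidueField) →ₐ[B] q.asIdeal.ResidueField :=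
      Algebra.TensorProduct.lift (Algebra.ofId B q.asIdeal.ResidueField) ρ
        (fun _ _ => Commute.all _ _)
    letI : Algebra (B ⊗[A] p.asIdeal.ResidueField) q.asIdeal.ResidueField :=
      φ.toRingHom.toAlgebra
    haveI : IsScalarTower B (B ⊗[A] p.asIdeal.ResidueField) q.asIdeal.ResidueField :=
      IsScalarTower.of_algebraMap_eq (fun b => (φ.commutes b).symm)
    have e := TensorProduct.AlgebraTensorModule.cancelBaseChange B
      (B ⊗[A] p.asIdeal.ResidueField) q.asIdeal.ResidueField q.asIdeal.ResidueField X
    haveI : Subsingleton (q.asIdeal.ResidueField ⊗[B ⊗[A] p.asIdeal.ResidueField]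
        ((B ⊗[A] p.asIdeal.ResidueField) ⊗[B] X)) := inferInstance
    have : Subsingleton (q.asIdeal.ResidueField ⊗[B] X) := e.symm.subsingleton
    exact not_subsingleton _ this

end Main

section Final

variable (A : Type u) {B : Type u} [CommRing A] [CommRing B] [Algebra A B]
  [Algebra.FinitePresentation A B] [Module.Flat A B]

theorem projectiveDimension_eq_iSup_fibre (M : Type u) [AddCommGroup M] [Module B M]
    [Module A M] [IsScalarTower A B M] [Module.FinitePresentation B M] [Module.Flat A M] :
    projectiveDimension (ModuleCat.of B M) =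
      ⨆ p : PrimeSpectrum A, projectiveDimension
        (ModuleCat.of (B ⊗[A] p.asIdeal.ResidueField)
          ((B ⊗[A] p.asIdeal.ResidueField) ⊗[B] M)) := by
  have hM : Q A B (ModuleCat.of B M) :=
    ⟨inferInstanceAs (Module.FinitePresentation B M), flat_compHom_iff.mpr ‹_›⟩
  apply eq_iSup_of_forall_lt_iff
  intro k
  simp only [projectiveDimension_lt_iff]
  cases k with
  | zero =>
    haveI : Module.Finite B (ModuleCat.of B M) := inferInstanceAs (Module.Finite B M)
    have h1 := isZero_iff_forall_fib A (ModuleCat.of B M)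
    rw [hasProjectiveDimensionLT_zero_iff_isZero, h1]
    exact forall_congr' fun p => (hasProjectiveDimensionLT_zero_iff_isZero _).symm
  | succ k =>
    have h1 := hasProjectiveDimensionLT_iff_projective_syz A hM k 0
    rw [Nat.zero_add] at h1
    have h2 := projective_iff_forall_fib A (Q_syz A hM k)
    have h3 : ∀ p : PrimeSpectrum A,
        HasProjectiveDimensionLT (fib A p (ModuleCat.of B M)) (k + 1) ↔
          Projective (fib A p (syz B (ModuleCat.of B M) k)) := fun p =>
      fib_hasProjectiveDimensionLT_iff A p hM k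
    exact h1.trans (h2.trans (forall_congr' fun p => (h3 p).symm))

end Final

end Groth.Agent.Lib27.PdFibre
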