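import Mathlib
import Groth.Agent.Lib27.Flat.KerFP
import Groth.Agent.Lib27.Flat.SliceCore
import Groth.Agent.Lib.Helper18.FlI

/-!
# The kernel lemma over a local ring essentially of finite presentation

`B` a finitely presented `A`-algebra, `q` a prime of `B`.  A surjection of finitely presented
`B_q`-modules onto an `A`-flat one has a finitely presented kernel.
-/

set_option autoImplicit false
set_option linter.style.haveILetI false
set_option linter.unusedSectionVars false

open TensorProduct Function
open scoped Pointwise

universe u

namespace Groth.Agent.Lib27.LocKerFP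

section Model

variable {B : Type u} [CommRing B] (S : Submonoid B) (D : Type u) [CommRing D] [Algebra B D]
  [IsLocalization S D]

/-- a finitely presented module over a localization of `B` is the localization of a finitely
presented `B`-module. -/
theorem exists_fp_model (H : Type u) [AddCommGroup H] [Module D H] [Module B H]
    [IsScalarTower B D H] [Module.FinitePresentation D H] :
    ∃ (n : ℕ) (K' : Submodule B (Fin n → B)) (f : ((Fin n → B) ⧸ K') →ₗ[B] H),
      K'.FG ∧ IsLocalizedModule S f := by
  classical
  obtain ⟨n, K, e, hK⟩ := Module.FinitePresentation.exists_fin D H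
  obtain ⟨T, hT⟩ := hK
  let ι : (Fin n → B) →ₗ[B] (Fin n → D) :=
    LinearMap.pi fun i => (Algebra.linearMap B D) ∘ₗ LinearMap.proj i
  haveI hι : IsLocalizedModule S ι := inferInstance
  let T' : Finset (Fin n → B) := IsLocalizedModule.finsetIntegerMultiple S ι T
  let c : S := IsLocalizedModule.commonDenomOfFinset S ι T
  have himg : ι '' (T' : Set (Fin n → B)) = c • (T : Set (Fin n → D)) :=
    IsLocalizedModule.finsetIntegerMultiple_image S ι T
  let K' : Submodule B (Fin n → B) := Submodule.span B (T' : Set (Fin n → B))
  have hloc : K'.localized' D S ι = K := by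
    rw [Submodule.localized'_span, himg, ← hT]
    apply le_antisymm
    · rw [Submodule.span_le]
      rintro _ ⟨t, ht, rfl⟩
      have : (c • t : Fin n → D) = (algebraMap B D (c : B)) • t := by
        rw [algebraMap_smul]; rfl
      change (c • t : Fin n → D) ∈ _
      rw [this]
      exact Submodule.smul_mem _ _ (Submodule.subset_span ht)
    · rw [Submodule.span_le]
      intro t ht
      have hu : IsUnit (algebraMap B D (c : B)) := IsLocalization.map_units D c
      obtain ⟨u, hu'⟩ := hu
      have h1 : (c • t : Fin n → D) ∈ Submodule.span D (c • (T : Set (Fin n → D))) :=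
        Submodule.subset_span ⟨t, ht, rfl⟩
      have h2 : t = ((u⁻¹ : Dˣ) : D) • (c • t : Fin n → D) := by
        have : (c • t : Fin n → D) = (u : D) • t := by
          rw [hu', algebraMap_smul]; rfl
        rw [this, smul_smul, Units.inv_mul, one_smul]
      rw [h2]
      exact Submodule.smul_mem _ _ h1
  let f₀ : ((Fin n → B) ⧸ K') →ₗ[B] ((Fin n → D) ⧸ K'.localized' D S ι) :=
    K'.toLocalizedQuotient' D S ι
  haveI : IsLocalizedModule S f₀ := inferInstance
  let e₁ : ((Fin n → D) ⧸ K'.localized' D S ι) ≃ₗ[B] H :=
    ((Submodule.quotEquivOfEq _ _ hloc).trans e.symm).restrictScalars B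
  refine ⟨n, K', e₁.toLinearMap ∘ₗ f₀, ⟨T', rfl⟩, ?_⟩
  exact IsLocalizedModule.of_linearEquiv S f₀ e₁

end Model

section TwoStep

variable {R : Type u} [CommRing R] (S₁ S₂ : Submonoid R)

/-- finite presentation passes from a localization to a further localization. -/
theorem finitePresentation_localizedModule_of_le (h : S₁ ≤ S₂) (K : Type u) [AddCommGroup K] [Module R K]
    [Module.FinitePresentation (Localization S₁) (LocalizedModule S₁ K)] :
    Module.FinitePresentation (Localization S₂) (LocalizedModule S₂ K) := by
  letI alg : Algebra (Localization S₁) (Localization S₂) :=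
    IsLocalization.localizationAlgebraOfSubmonoidLe _ _ S₁ S₂ h
  haveI : IsScalarTower R (Localization S₁) (Localization S₂) :=
    IsLocalization.localization_isScalarTower_of_submonoid_le _ _ S₁ S₂ h
  haveI hloc : IsLocalization (Algebra.algebraMapSubmonoid (Localization S₁) S₂)
      (Localization S₂) :=
    IsLocalization.isLocalization_of_submonoid_le _ _ S₁ S₂ h
  letI : Module (Localization S₁) (LocalizedModule S₂ K) :=
    Module.compHom _ (algebraMap (Localization S₁) (Localization S₂))
  haveI : IsScalarTower (Localization S₁) (Localization S₂) (LocalizedModule S₂ K) :=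
    IsScalarTower.of_algebraMap_smul fun _ _ => rfl
  haveI : IsScalarTower R (Localization S₁) (LocalizedModule S₂ K) :=
    IsScalarTower.of_algebraMap_smul fun r x => by
      change algebraMap (Localization S₁) (Localization S₂) (algebraMap R (Localization S₁) r) • x
        = r • x
      rw [← IsScalarTower.algebraMap_apply, algebraMap_smul]
  let l₀ : LocalizedModule S₁ K →ₗ[R] LocalizedModule S₂ K := LocalizedModule.liftOfLE S₁ S₂ h
  let l₁ : LocalizedModule S₁ K →ₗ[Localization S₁] LocalizedModule S₂ K :=
    LinearMap.extendScalarsOfIsLocalization S₁ (Localization S₁) l₀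
  haveI : IsLocalizedModule S₂ (l₁.restrictScalars R) :=
    (inferInstance : IsLocalizedModule S₂ l₀)
  haveI := IsLocalizedModule.of_restrictScalars S₂ l₁
  have hbc : IsBaseChange (Localization S₂) l₁ :=
    (isLocalizedModule_iff_isBaseChange (Algebra.algebraMapSubmonoid (Localization S₁) S₂)
      (Localization S₂) l₁).mp inferInstance
  exact FinitePresentation.of_isBaseChange l₁ hbc

end TwoStep


section Main

open Groth.Agent.Lib27.KerFP Groth.Agent.Lib.Helper18.Fl

variable {A B : Type u} [CommRing A] [CommRing B] [Algebra A B] [Algebra.FinitePresentation A B]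
  (q : Ideal B) [q.IsPrime]

/-- finite presentation of the localized kernel: `K'` a submodule of `B^n` with `A`-flat
localized quotient. -/
theorem finitePresentation_localizedModule_ker {n : ℕ} (K' : Submodule B (Fin n → B))
    (hK' : K'.FG)
    (hflat : Module.Flat A (LocalizedModule q.primeCompl ((Fin n → B) ⧸ K'))) :
    Module.FinitePresentation (Localization.AtPrime q) (LocalizedModule q.primeCompl K') := by
  haveI : Module.FinitePresentation B ((Fin n → B) ⧸ K') :=
    Module.finitePresentation_of_surjective K'.mkQ (Submodule.mkQ_surjective _)
      (by rw [Submodule.ker_mkQ]; exact hK')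
  obtain ⟨g, hg, hU⟩ := Groth.Agent.Lib27.Slice.exists_basicOpen_flat q
    ((Fin n → B) ⧸ K') hflat
  have hflatg : Module.Flat A (LocalizedModule (Submonoid.powers g) ((Fin n → B) ⧸ K')) := by
    rw [flat_localizedModule_iff_forall_prime (A := A) (Submonoid.powers g)]
    intro Q _ hdisj
    exact hU Q (fun hgQ => Set.disjoint_left.mp hdisj hgQ (Submonoid.mem_powers g))
  have hle : Submonoid.powers g ≤ q.primeCompl := by
    rw [Submonoid.powers_le]
    exact hg
  suffices hfin : Module.FinitePresentation (Localization (Submonoid.powers g))
      (LocalizedModule (Submonoid.powers g) K') from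
    finitePresentation_localizedModule_of_le (Submonoid.powers g) q.primeCompl hle K'
  -- the kernel lemma over `B_g`
  haveI : Algebra.FinitePresentation B (Localization.Away g) :=
    IsLocalization.Away.finitePresentation g
  haveI : Algebra.FinitePresentation A (Localization.Away g) :=
    Algebra.FinitePresentation.trans A B _
  let πg : LocalizedModule (Submonoid.powers g) (Fin n → B) →ₗ[Localization.Away g]
      LocalizedModule (Submonoid.powers g) ((Fin n → B) ⧸ K') :=
    (IsLocalizedModule.map (Submonoid.powers g)
      (LocalizedModule.mkLinearMap (Submonoid.powers g) (Fin n → B))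
      (LocalizedModule.mkLinearMap (Submonoid.powers g) ((Fin n → B) ⧸ K'))
      K'.mkQ).extendScalarsOfIsLocalization (Submonoid.powers g) (Localization.Away g)
  have hπg : Surjective πg := by
    intro y
    obtain ⟨⟨m, s⟩, rfl⟩ := IsLocalizedModule.mk'_surjective (Submonoid.powers g)
      (LocalizedModule.mkLinearMap (Submonoid.powers g) ((Fin n → B) ⧸ K')) y
    obtain ⟨m', rfl⟩ := Submodule.mkQ_surjective K' m
    refine ⟨IsLocalizedModule.mk' (LocalizedModule.mkLinearMap (Submonoid.powers g)
      (Fin n → B)) m' s, ?_⟩
    change IsLocalizedModule.map _ _ _ _ _ = _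
    rw [IsLocalizedModule.map_mk']
    rfl
  haveI : IsScalarTower A (Localization.Away g)
      (LocalizedModule (Submonoid.powers g) ((Fin n → B) ⧸ K')) :=
    IsScalarTower.of_algebraMap_smul fun a x => by
      rw [IsScalarTower.algebraMap_apply A B (Localization.Away g), algebraMap_smul,
        algebraMap_smul]
  haveI hk : Module.FinitePresentation (Localization.Away g) (LinearMap.ker πg) :=
    finitePresentation_ker_of_flat (A := A) (D := Localization.Away g) πg hπg
  have hker : (LinearMap.ker K'.mkQ).localized' (Localization.Away g) (Submonoid.powers g)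
      (LocalizedModule.mkLinearMap (Submonoid.powers g) (Fin n → B)) = LinearMap.ker πg :=
    LinearMap.localized'_ker_eq_ker_localizedMap _ _ _ _ _
  rw [Submodule.ker_mkQ] at hker
  haveI : Module.FinitePresentation (Localization.Away g)
      (K'.localized (Submonoid.powers g)) := by
    change Module.FinitePresentation (Localization.Away g)
      (K'.localized' (Localization.Away g) (Submonoid.powers g)
        (LocalizedModule.mkLinearMap (Submonoid.powers g) (Fin n → B)))
    rw [hker]
    exact hk
  have e : (K'.localized (Submonoid.powers g)) ≃ₗ[Localization (Submonoid.powers g)]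
      LocalizedModule (Submonoid.powers g) K' := Submodule.localizedEquiv (Submonoid.powers g) K'
  exact Module.FinitePresentation.of_equiv (R := Localization (Submonoid.powers g))
    (M := K'.localized (Submonoid.powers g)) (N := LocalizedModule (Submonoid.powers g) K') e

/-- **Kernel lemma, local form**: over the local ring `B_q` of a finitely presented `A`-algebra,
the kernel of a surjection of finitely presented modules onto an `A`-flat one is finitely
presented. -/
theorem finitePresentation_ker_of_flat_atPrime {G H : Type u} [AddCommGroup G]
    [Module (Localization.AtPrime q) G] [AddCommGroup H] [Module (Localization.AtPrime q) H]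
    [Module A H] [IsScalarTower A (Localization.AtPrime q) H]
    [Module.FinitePresentation (Localization.AtPrime q) G]
    [Module.FinitePresentation (Localization.AtPrime q) H] [Module.Flat A H]
    (π : G →ₗ[Localization.AtPrime q] H) (hπ : Surjective π) :
    Module.FinitePresentation (Localization.AtPrime q) (LinearMap.ker π) := by
  letI : Module B H := Module.compHom H (algebraMap B (Localization.AtPrime q))
  haveI : IsScalarTower B (Localization.AtPrime q) H :=
    IsScalarTower.of_algebraMap_smul fun _ _ => rfl
  haveI : IsScalarTower A B H := IsScalarTower.of_algebraMap_smul fun a x => by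
    change algebraMap B (Localization.AtPrime q) (algebraMap A B a) • x = a • x
    rw [← IsScalarTower.algebraMap_apply, algebraMap_smul]
  obtain ⟨n, K', f, hK', hf⟩ := exists_fp_model q.primeCompl (Localization.AtPrime q) H
  haveI := hf
  have eH : LocalizedModule q.primeCompl ((Fin n → B) ⧸ K') ≃ₗ[B] H :=
    IsLocalizedModule.iso q.primeCompl f
  have hflat : Module.Flat A (LocalizedModule q.primeCompl ((Fin n → B) ⧸ K')) :=
    Module.Flat.of_linearEquiv (eH.restrictScalars A)
  have hKfp := finitePresentation_localizedModule_ker (A := A) q K' hK' hflat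
  let πq : LocalizedModule q.primeCompl (Fin n → B) →ₗ[Localization.AtPrime q]
      LocalizedModule q.primeCompl ((Fin n → B) ⧸ K') :=
    (IsLocalizedModule.map q.primeCompl
      (LocalizedModule.mkLinearMap q.primeCompl (Fin n → B))
      (LocalizedModule.mkLinearMap q.primeCompl ((Fin n → B) ⧸ K'))
      K'.mkQ).extendScalarsOfIsLocalization q.primeCompl (Localization.AtPrime q)
  have hπq : Surjective πq := by
    intro y
    obtain ⟨⟨m, s⟩, rfl⟩ := IsLocalizedModule.mk'_surjective q.primeCompl
      (LocalizedModule.mkLinearMap q.primeCompl ((Fin n → B) ⧸ K')) y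
    obtain ⟨m', rfl⟩ := Submodule.mkQ_surjective K' m
    refine ⟨IsLocalizedModule.mk' (LocalizedModule.mkLinearMap q.primeCompl
      (Fin n → B)) m' s, ?_⟩
    change IsLocalizedModule.map _ _ _ _ _ = _
    rw [IsLocalizedModule.map_mk']
    rfl
  have hker : (LinearMap.ker K'.mkQ).localized' (Localization.AtPrime q) q.primeCompl
      (LocalizedModule.mkLinearMap q.primeCompl (Fin n → B)) = LinearMap.ker πq :=
    LinearMap.localized'_ker_eq_ker_localizedMap _ _ _ _ _
  rw [Submodule.ker_mkQ] at hker
  have e : (K'.localized q.primeCompl) ≃ₗ[Localization q.primeCompl]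
      LocalizedModule q.primeCompl K' := Submodule.localizedEquiv q.primeCompl K'
  haveI h1 : Module.FinitePresentation (Localization.AtPrime q) (K'.localized q.primeCompl) :=
    Module.FinitePresentation.of_equiv (R := Localization q.primeCompl)
      (M := LocalizedModule q.primeCompl K') (N := K'.localized q.primeCompl) e.symm
  haveI h2 : Module.FinitePresentation (Localization.AtPrime q) (LinearMap.ker πq) := by
    rw [← hker]
    exact h1
  let eH' : LocalizedModule q.primeCompl ((Fin n → B) ⧸ K') ≃ₗ[Localization.AtPrime q] H :=
    eH.extendScalarsOfIsLocalization q.primeCompl (Localization.AtPrime q)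
  let π' : LocalizedModule q.primeCompl (Fin n → B) →ₗ[Localization.AtPrime q] H :=
    eH'.toLinearMap ∘ₗ πq
  have hπ' : Surjective π' := eH'.surjective.comp hπq
  have hker' : LinearMap.ker π' = LinearMap.ker πq := LinearEquiv.ker_comp _ _
  haveI : Module.FinitePresentation (Localization.AtPrime q) (LinearMap.ker π') := by
    rw [hker']
    exact h2
  haveI : Module.Free (Localization.AtPrime q) (LocalizedModule q.primeCompl (Fin n → B)) :=
    Module.free_of_isLocalizedModule q.primeCompl
      (LocalizedModule.mkLinearMap q.primeCompl (Fin n → B))
  exact finitePresentation_ker_of_ker π hπ π' hπ'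

end Main

section Abstract

open Groth.Agent.Lib27.KerFP

/-- finite presentation of a localized module does not depend on the model of the
localization. -/
theorem finitePresentation_of_isLocalizedModule {B : Type u} [CommRing B] (S : Submonoid B)
    (T : Type u) [CommRing T] [Algebra B T] [IsLocalization S T]
    {K X : Type u} [AddCommGroup K] [Module B K] [AddCommGroup X] [Module B X] [Module T X]
    [IsScalarTower B T X] (g : K →ₗ[B] X) [IsLocalizedModule S g]
    [Module.FinitePresentation (Localization S) (LocalizedModule S K)] :
    Module.FinitePresentation T X := by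
  letI : Algebra (Localization S) T :=
    (IsLocalization.algEquiv S (Localization S) T).toAlgHom.toRingHom.toAlgebra
  haveI : IsScalarTower B (Localization S) T :=
    IsScalarTower.of_algebraMap_eq fun b =>
      ((IsLocalization.algEquiv S (Localization S) T).commutes b).symm
  have e1 : (Localization S) ⊗[B] K ≃ₗ[Localization S] LocalizedModule S K :=
    (IsLocalizedModule.isBaseChange S (Localization S) (LocalizedModule.mkLinearMap S K)).equiv
  haveI : Module.FinitePresentation (Localization S) ((Localization S) ⊗[B] K) :=
    Module.FinitePresentation.of_equiv e1.symm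
  have e2 : T ⊗[Localization S] ((Localization S) ⊗[B] K) ≃ₗ[T] T ⊗[B] K :=
    TensorProduct.AlgebraTensorModule.cancelBaseChange B (Localization S) T T K
  have e3 : T ⊗[B] K ≃ₗ[T] X := (IsLocalizedModule.isBaseChange S T g).equiv
  exact Module.FinitePresentation.of_equiv (e2 ≪≫ₗ e3)

variable {A B : Type u} [CommRing A] [CommRing B] [Algebra A B] [Algebra.FinitePresentation A B]
  (q : Ideal B) [q.IsPrime] (T : Type u) [CommRing T] [Algebra B T] [Algebra A T]
  [IsScalarTower A B T] [IsLocalization.AtPrime T q]

include q in
/-- **Kernel lemma, local form, abstract localization.** -/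
theorem finitePresentation_ker_of_flat_atPrime' {G H : Type u} [AddCommGroup G]
    [Module T G] [AddCommGroup H] [Module T H] [Module A H] [IsScalarTower A T H]
    [Module.FinitePresentation T G] [Module.FinitePresentation T H] [Module.Flat A H]
    (π : G →ₗ[T] H) (hπ : Surjective π) :
    Module.FinitePresentation T (LinearMap.ker π) := by
  letI : Module B H := Module.compHom H (algebraMap B T)
  haveI : IsScalarTower B T H := IsScalarTower.of_algebraMap_smul fun _ _ => rfl
  haveI : IsScalarTower A B H := IsScalarTower.of_algebraMap_smul fun a x => by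
    change algebraMap B T (algebraMap A B a) • x = a • x
    rw [← IsScalarTower.algebraMap_apply, algebraMap_smul]
  obtain ⟨n, K', f, hK', hf⟩ := exists_fp_model q.primeCompl T H
  haveI := hf
  have eH : LocalizedModule q.primeCompl ((Fin n → B) ⧸ K') ≃ₗ[B] H :=
    IsLocalizedModule.iso q.primeCompl f
  have hflat : Module.Flat A (LocalizedModule q.primeCompl ((Fin n → B) ⧸ K')) :=
    Module.Flat.of_linearEquiv (eH.restrictScalars A)
  haveI hKfp := finitePresentation_localizedModule_ker (A := A) q K' hK' hflat
  let ι : (Fin n → B) →ₗ[B] (Fin n → T) :=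
    LinearMap.pi fun i => (Algebra.linearMap B T) ∘ₗ LinearMap.proj i
  haveI hι : IsLocalizedModule q.primeCompl ι := inferInstance
  let πT : (Fin n → T) →ₗ[T] H :=
    (IsLocalizedModule.map q.primeCompl ι f K'.mkQ).extendScalarsOfIsLocalization q.primeCompl T
  have hπT : Surjective πT := by
    intro y
    obtain ⟨⟨m, s⟩, rfl⟩ := IsLocalizedModule.mk'_surjective q.primeCompl f y
    obtain ⟨m', rfl⟩ := Submodule.mkQ_surjective K' m
    refine ⟨IsLocalizedModule.mk' ι m' s, ?_⟩
    change IsLocalizedModule.map _ _ _ _ _ = _
    rw [IsLocalizedModule.map_mk']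
    rfl
  have hker : (LinearMap.ker K'.mkQ).localized' T q.primeCompl ι = LinearMap.ker πT :=
    LinearMap.localized'_ker_eq_ker_localizedMap _ _ _ _ _
  rw [Submodule.ker_mkQ] at hker
  haveI h1 : Module.FinitePresentation T (K'.localized' T q.primeCompl ι) :=
    finitePresentation_of_isLocalizedModule q.primeCompl T (K'.toLocalized' T q.primeCompl ι)
  haveI h2 : Module.FinitePresentation T (LinearMap.ker πT) := by
    rw [← hker]
    exact h1
  exact finitePresentation_ker_of_ker π hπ πT hπT

end Abstract

end Groth.Agent.Lib27.LocKerFP
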