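import Mathlib
import Groth.Agent.Lib27.Flat.Syz
import Groth.Agent.Lib27.Flat.LocKerFP

/-!
# Syzygies over rings satisfying the kernel lemma (e.g. local rings of f.p. flat algebras)
-/

set_option autoImplicit false
set_option linter.style.haveILetI false
set_option linter.unusedSectionVars false

universe u

open CategoryTheory CategoryTheory.Limits Function TensorProduct

namespace Groth.Agent.Lib27.SyzLoc

open Groth.Agent.Lib27.Resol Groth.Agent.Lib27.PseudoCoh Groth.Agent.Lib27.FreeRes
  Groth.Agent.Lib27.Syz

variable (A : Type u) {B : Type u} [CommRing A] [CommRing B] [Algebra A B]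

/-- the class `Q A B` is good as soon as `B` is `A`-flat and the kernel lemma holds. -/
lemma good2_of [Module.Flat A B]
    (hker : ∀ (X : Type u) [AddCommGroup X] [Module B X] [Module A X] [IsScalarTower A B X]
      [Module.FinitePresentation B X] [Module.Flat A X] (n : ℕ) (π : (Fin n → B) →ₗ[B] X),
      Surjective π → Module.FinitePresentation B (LinearMap.ker π)) :
    (cover B).Good2 (Q A B) where
  iso {X Y} e h := by
    obtain ⟨h1, h2⟩ := h
    letI : Module A X := Module.compHom X (algebraMap A B)
    letI : Module A Y := Module.compHom Y (algebraMap A B)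
    haveI : IsScalarTower A B X := IsScalarTower.of_algebraMap_smul fun _ _ => rfl
    haveI : IsScalarTower A B Y := IsScalarTower.of_algebraMap_smul fun _ _ => rfl
    haveI : Module.Flat A X := h2
    exact ⟨Module.FinitePresentation.of_equiv e.toLinearEquiv,
      Module.Flat.of_linearEquiv (e.symm.toLinearEquiv.restrictScalars A)⟩
  epi N hN := by
    haveI := hN.1
    exact (ModuleCat.epi_iff_surjective _).2 (pres_surjective B N inferInstance)
  kerπ X hX := by
    obtain ⟨h1, h2⟩ := hX
    haveI := h1
    letI : Module A X := Module.compHom X (algebraMap A B)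
    haveI : IsScalarTower A B X := IsScalarTower.of_algebraMap_smul fun _ _ => rfl
    haveI : Module.Flat A X := h2
    have hsurj : Surjective (pres B X).2 := pres_surjective B X inferInstance
    have e : kernel ((cover B).π X) ≅ ModuleCat.of B (LinearMap.ker (pres B X).2) :=
      ModuleCat.kernelIsoKer _
    haveI hfp : Module.FinitePresentation B (LinearMap.ker (pres B X).2) :=
      hker X _ (pres B X).2 hsurj
    haveI : Module.Flat A (Fin (pres B X).1 → B) := Module.Flat.trans A B _
    haveI hfl : Module.Flat A (LinearMap.ker (pres B X).2) :=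
      flat_ker_of_surjective' (pres B X).2 hsurj
    letI : Module A (kernel ((cover B).π X) : ModuleCat.{u} B) :=
      Module.compHom _ (algebraMap A B)
    haveI : IsScalarTower A B (kernel ((cover B).π X) : ModuleCat.{u} B) :=
      IsScalarTower.of_algebraMap_smul fun _ _ => rfl
    have e' : (kernel ((cover B).π X) : ModuleCat.{u} B) ≃ₗ[B] LinearMap.ker (pres B X).2 :=
      e.toLinearEquiv
    exact ⟨Module.FinitePresentation.of_equiv e'.symm,
      Module.Flat.of_linearEquiv (e'.restrictScalars A)⟩

section Gen

variable {A}
variable (hgood : (cover B).Good2 (Q A B))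
include hgood

lemma Q_syz {M : ModuleCat.{u} B} (hM : Q A B M) : ∀ n, Q A B (syz B M n)
  | 0 => hM
  | n + 1 => hgood.kerπ _ (Q_syz hM n)

lemma sc_shortExact {M : ModuleCat.{u} B} (hM : Q A B M) (n : ℕ) : (sc B M n).ShortExact where
  exact := ShortComplex.exact_kernel _
  mono_f := by dsimp [sc]; infer_instance
  epi_g := hgood.epi _ (Q_syz hgood hM n)

/-- dimension shifting for the projective dimension. -/
lemma hasProjectiveDimensionLT_iff_projective_syz {M : ModuleCat.{u} B} (hM : Q A B M) :
    ∀ (k j : ℕ), HasProjectiveDimensionLT (syz B M j) (k + 1) ↔ Projective (syz B M (j + k))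
  | 0, j => projective_iff_hasProjectiveDimensionLT_one.symm
  | k + 1, j => by
    have h1 := (sc_shortExact hgood hM j).hasProjectiveDimensionLT_X₃_iff k
      (inferInstanceAs (Projective ((cover B).cov (syz B M j))))
    have h2 := hasProjectiveDimensionLT_iff_projective_syz hM k (j + 1)
    have e : j + 1 + k = j + (k + 1) := by omega
    rw [e] at h2
    exact h1.trans h2

end Gen

section AtPrime

variable {A}
variable {B₀ : Type u} [CommRing B₀] [Algebra A B₀] [Algebra.FinitePresentation A B₀]
  [Module.Flat A B₀] (q : Ideal B₀) [q.IsPrime]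

/-- the local ring at a prime of a flat finitely presented algebra satisfies the kernel lemma. -/
lemma good2_atPrime : (cover (Localization.AtPrime q)).Good2 (Q A (Localization.AtPrime q)) := by
  haveI : Module.Flat A (Localization.AtPrime q) := Module.Flat.trans A B₀ _
  refine good2_of A ?_
  intro X _ _ _ _ _ _ n π hπ
  exact Groth.Agent.Lib27.LocKerFP.finitePresentation_ker_of_flat_atPrime (A := A) q π hπ

end AtPrime

end Groth.Agent.Lib27.SyzLoc
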