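import Mathlib
import Groth.Agent.Lib27.Flat.SyzLoc
import Groth.Agent.Lib27.Flat.PdFibre
import Groth.Agent.Lib27.Sch.LocalCore

/-!
# Base change of syzygy sequences along `B → R'`, generic form, and the closed fibre of a
local ring `B_q`
-/

set_option autoImplicit false
set_option linter.style.haveILetI false
set_option linter.unusedSectionVars false

universe u

open CategoryTheory CategoryTheory.Limits Function TensorProduct

namespace Groth.Agent.Lib27.GenFib

open Groth.Agent.Lib27.Resol Groth.Agent.Lib27.PseudoCoh Groth.Agent.Lib27.FreeRes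
  Groth.Agent.Lib27.Syz Groth.Agent.Lib27.PdFibre

section Gen

variable (A : Type u) {B : Type u} [CommRing A] [CommRing B] [Algebra A B]
  (R' : Type u) [CommRing R'] [Algebra B R']

/-- base change to `R'` preserves injectivity of maps with `A`-flat cokernel. -/
def InjHyp : Prop :=
  ∀ (X Y : Type u) [AddCommGroup X] [Module B X] [Module A X] [IsScalarTower A B X]
    [AddCommGroup Y] [Module B Y] [Module A Y] [IsScalarTower A B Y] (f : X →ₗ[B] Y),
    Injective f → Module.Flat A (Y ⧸ LinearMap.range (f.restrictScalars A)) →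
    Injective (f.baseChange R')

/-- the base change of a `B`-module. -/
noncomputable abbrev fib (X : ModuleCat.{u} B) : ModuleCat.{u} R' :=
  ModuleCat.of R' (R' ⊗[B] X)

/-- the induced map. -/
noncomputable abbrev fibMap {X Y : ModuleCat.{u} B} (f : X ⟶ Y) : fib R' X ⟶ fib R' Y :=
  ModuleCat.ofHom (f.hom.baseChange R')

/-- the base change of the syzygy sequence. -/
noncomputable def fsc (M : ModuleCat.{u} B) (j : ℕ) : ShortComplex (ModuleCat.{u} R') :=
  ShortComplex.mk (fibMap R' (sc B M j).f) (fibMap R' (sc B M j).g) (by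
    have h0 : (sc B M j).g.hom ∘ₗ (sc B M j).f.hom = 0 := by
      have := (sc B M j).zero
      exact congrArg ModuleCat.Hom.hom this
    apply ModuleCat.hom_ext
    change ((sc B M j).g.hom.baseChange R' ∘ₗ (sc B M j).f.hom.baseChange R') = 0
    rw [← LinearMap.baseChange_comp, h0, LinearMap.baseChange_zero])

variable {A}

lemma fsc_shortExact (hgood : (cover B).Good2 (Q A B)) (hinj' : InjHyp A (B := B) R')
    {M : ModuleCat.{u} B} (hM : Q A B M) (j : ℕ) : (fsc R' M j).ShortExact := by
  have hS := SyzLoc.sc_shortExact hgood hM j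
  have hsurj : Surjective (sc B M j).g.hom := (ModuleCat.epi_iff_surjective _).mp hS.epi_g
  have hinj : Injective (sc B M j).f.hom := (ModuleCat.mono_iff_injective _).mp hS.mono_f
  have hex : Function.Exact (sc B M j).f.hom (sc B M j).g.hom :=
    (ShortComplex.ShortExact.moduleCat_exact_iff_function_exact _).mp hS.exact
  refine ModuleCat.shortComplex_shortExact _ ?_ ?_ ?_
  · change Function.Exact ((sc B M j).f.hom.baseChange R') ((sc B M j).g.hom.baseChange R')
    rw [LinearMap.baseChange_eq_ltensor, LinearMap.baseChange_eq_ltensor]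
    exact lTensor_exact _ hex hsurj
  · change Injective ((sc B M j).f.hom.baseChange R')
    letI : Module A (sc B M j).X₁ := Module.compHom _ (algebraMap A B)
    letI : Module A (sc B M j).X₂ := Module.compHom _ (algebraMap A B)
    letI : Module A (sc B M j).X₃ := Module.compHom _ (algebraMap A B)
    haveI : IsScalarTower A B (sc B M j).X₁ := IsScalarTower.of_algebraMap_smul fun _ _ => rfl
    haveI : IsScalarTower A B (sc B M j).X₂ := IsScalarTower.of_algebraMap_smul fun _ _ => rfl
    haveI : IsScalarTower A B (sc B M j).X₃ := IsScalarTower.of_algebraMap_smul fun _ _ => rfl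
    haveI : Module.Flat A (sc B M j).X₃ := (SyzLoc.Q_syz hgood hM j).2
    have hker : LinearMap.range ((sc B M j).f.hom.restrictScalars A) =
        LinearMap.ker ((sc B M j).g.hom.restrictScalars A) := by
      ext y
      exact (hex y).symm
    have hfl : Module.Flat A ((sc B M j).X₂ ⧸
        LinearMap.range ((sc B M j).f.hom.restrictScalars A)) :=
      Module.Flat.of_linearEquiv (Submodule.quotEquivOfEq _ _ hker ≪≫ₗ
        ((sc B M j).g.hom.restrictScalars A).quotKerEquivOfSurjective hsurj)
    exact hinj' _ _ (sc B M j).f.hom hinj hfl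
  · change Surjective ((sc B M j).g.hom.baseChange R')
    rw [LinearMap.baseChange_eq_ltensor]
    exact LinearMap.lTensor_surjective _ hsurj

lemma projective_fsc_X₂ (M : ModuleCat.{u} B) (j : ℕ) : Projective (fsc R' M j).X₂ := by
  haveI : Module.Free R' (R' ⊗[B] (Fin (pres B (syz B M j)).1 → B)) := inferInstance
  exact ModuleCat.projective_of_categoryTheory_projective
    (ModuleCat.of R' (R' ⊗[B] (Fin (pres B (syz B M j)).1 → B)))

/-- dimension shifting after base change. -/
lemma fib_hasProjectiveDimensionLT_iff (hgood : (cover B).Good2 (Q A B)) (hinj' : InjHyp A (B := B) R')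
    {M : ModuleCat.{u} B} (hM : Q A B M) (k : ℕ) :
    HasProjectiveDimensionLT (fib R' M) (k + 1) ↔ Projective (fib R' (syz B M k)) := by
  have := hasProjectiveDimensionLT_iff_projective (fun j => fib R' (syz B M j))
    (fun j => fsc R' M j) (fun j => fsc_shortExact R' hgood hinj' hM j)
    (fun j => projective_fsc_X₂ R' M j) (fun j => Iso.refl _) (fun j => Iso.refl _) k 0
  rw [Nat.zero_add] at this
  exact this

end Gen

section AtPrime

open Groth.Agent.Lib27.LocalCore

variable (A : Type u) {B₀ : Type u} [CommRing A] [CommRing B₀] [Algebra A B₀]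
  (q : Ideal B₀) [q.IsPrime]

/-- reduction modulo `p B_q` preserves injectivity of maps with `A`-flat cokernel. -/
theorem injHyp_atPrime :
    InjHyp A (B := Localization.AtPrime q)
      (Localization.AtPrime q ⧸ fibIdeal (A := A) q (Localization.AtPrime q)) := by
  intro X Y _ _ _ _ _ _ _ _ f hf hflat
  set I := fibIdeal (A := A) q (Localization.AtPrime q) with hI
  rw [injective_iff_map_eq_zero]
  intro z hz
  obtain ⟨x, hx⟩ := Submodule.Quotient.mk_surjective _
    (TensorProduct.quotTensorEquivQuotSMul X I z)
  have hz' : z = (1 : Localization.AtPrime q ⧸ I) ⊗ₜ[Localization.AtPrime q] x := by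
    apply (TensorProduct.quotTensorEquivQuotSMul X I).injective
    have h5 : (1 : Localization.AtPrime q ⧸ I) = Ideal.Quotient.mk I 1 := rfl
    rw [← hx, h5, TensorProduct.quotTensorEquivQuotSMul_mk_tmul, one_smul]
  rw [hz', LinearMap.baseChange_tmul] at hz
  have h1 := congrArg (TensorProduct.quotTensorEquivQuotSMul Y I) hz
  have h5 : (1 : Localization.AtPrime q ⧸ I) = Ideal.Quotient.mk I 1 := rfl
  rw [h5, TensorProduct.quotTensorEquivQuotSMul_mk_tmul, one_smul, map_zero,
    Submodule.Quotient.mk_eq_zero] at h1
  have h2 := mem_of_injective_of_flat q (Localization.AtPrime q) f hf hflat x h1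
  rw [hz']
  apply (TensorProduct.quotTensorEquivQuotSMul X I).injective
  rw [h5, TensorProduct.quotTensorEquivQuotSMul_mk_tmul, one_smul, map_zero,
    Submodule.Quotient.mk_eq_zero]
  exact h2

end AtPrime

end Groth.Agent.Lib27.GenFib
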