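import Mathlib
import Groth.Agent.Lib27.Sch.LocalCore
import Groth.Agent.Lib27.Flat.FibreCrit
import Groth.Agent.Lib.Helper23.FibCritEFP

/-!
# Local criterion of flatness over a non-local base, and the regular-element criterion (helper27)

* `isNoetherianRing_fibre`: the local ring of a fibre of a finite type algebra is Noetherian.
* `flat_of_ker_inter_le`: (after helper23's `flat_of_lTensor_maximalIdeal_injective`, with the
  base no longer assumed local): `Bq` a local ring of a flat finitely presented `A`-algebra,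
  `M = F/K` a finitely presented `Bq`-module with `K ∩ 𝔭F = 𝔭K`; then `M` is flat over `A`.
* `flat_of_regular_of_flat_quot`: if `h ∈ 𝔪_{Bq}` is `M`-regular and `M/hM` is flat over `A`, then
  `M` is flat over `A`.
-/

set_option autoImplicit false
set_option linter.style.haveILetI false
set_option linter.unusedSectionVars false

universe u

open TensorProduct Function

namespace Groth.Agent.Lib27.LocCritGen

open Groth.Agent.Lib27.LocalCore

section Noeth

variable {A B : Type u} [CommRing A] [CommRing B] [Algebra A B] [Algebra.FiniteType A B]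
  (q : Ideal B) [q.IsPrime]
  (Bq : Type u) [CommRing Bq] [Algebra B Bq] [Algebra A Bq] [IsScalarTower A B Bq]
  [IsLocalization.AtPrime Bq q]

/-- the local ring of a fibre of a finite type algebra is Noetherian. -/
theorem isNoetherianRing_fibre : IsNoetherianRing (Bq ⧸ fibIdeal (A := A) q Bq) := by
  set p := q.comap (algebraMap A B) with hp
  haveI : p.IsPrime := Ideal.comap_isPrime _ _
  set I' : Ideal Bq := fibIdeal (A := A) q Bq with hI'
  haveI : Algebra.EssFiniteType B Bq := Algebra.EssFiniteType.of_isLocalization Bq q.primeCompl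
  haveI : Algebra.EssFiniteType A Bq := Algebra.EssFiniteType.comp A B Bq
  haveI : Algebra.EssFiniteType A (Bq ⧸ I') := inferInstance
  have hf₁ : p ≤ RingHom.ker (algebraMap A (Bq ⧸ I')) := by
    intro a ha
    rw [RingHom.mem_ker, IsScalarTower.algebraMap_apply A Bq (Bq ⧸ I'),
      Ideal.Quotient.algebraMap_eq, Ideal.Quotient.eq_zero_iff_mem]
    exact Ideal.mem_map_of_mem _ ha
  have hf₂ : p.primeCompl ≤ (IsUnit.submonoid (Bq ⧸ I')).comap (algebraMap A (Bq ⧸ I')) := by
    intro a ha
    rw [Submonoid.mem_comap, IsUnit.mem_submonoid_iff,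
      IsScalarTower.algebraMap_apply A Bq (Bq ⧸ I'), IsScalarTower.algebraMap_apply A B Bq]
    have h1 : algebraMap A B a ∉ q := ha
    have h2 : IsUnit (algebraMap B Bq (algebraMap A B a)) :=
      (IsLocalization.AtPrime.isUnit_to_map_iff Bq q _).mpr h1
    exact h2.map _
  letI algk : Algebra p.ResidueField (Bq ⧸ I') :=
    (Ideal.ResidueField.lift p (algebraMap A (Bq ⧸ I')) hf₁ hf₂).toAlgebra
  haveI : IsScalarTower A p.ResidueField (Bq ⧸ I') :=
    IsScalarTower.of_algebraMap_eq (fun a =>
      (Ideal.ResidueField.lift_algebraMap p (algebraMap A (Bq ⧸ I')) hf₁ hf₂ a).symm)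
  haveI : Algebra.EssFiniteType p.ResidueField (Bq ⧸ I') :=
    Algebra.EssFiniteType.of_comp A p.ResidueField (Bq ⧸ I')
  exact Algebra.EssFiniteType.isNoetherianRing p.ResidueField (Bq ⧸ I')

end Noeth

section LC

open Groth.Agent.Lib.Helper23.FibCritEFP

variable {A : Type u} [CommRing A] {B : Type u} [CommRing B] [Algebra A B]
  [Algebra.FinitePresentation A B] [Module.Flat A B]
  (q : Ideal B) [q.IsPrime]
  (Bq : Type u) [CommRing Bq] [Algebra B Bq] [Algebra A Bq] [IsScalarTower A B Bq]
  [IsLocalization.AtPrime Bq q]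
  {M : Type u} [AddCommGroup M] [Module Bq M] [Module A M] [IsScalarTower A Bq M]

/-- **Local criterion in presentation form** (after helper23, base not assumed local):
`M = F/K` finitely presented over `Bq`, with `K ∩ 𝔭F ⊆ 𝔭K` for `𝔭` the prime of `A` under `q`.
Then `M` is flat over `A`. -/
theorem flat_of_ker_inter_le [Module.FinitePresentation Bq M] {b : ℕ}
    (p : (Fin b → Bq) →ₗ[Bq] M) (hp : Surjective p)
    (hstep3 : ∀ x ∈ LinearMap.ker p,
      x ∈ fibIdeal (A := A) q Bq • (⊤ : Submodule Bq (Fin b → Bq)) →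
      x ∈ fibIdeal (A := A) q Bq • LinearMap.ker p) :
    Module.Flat A M := by
  classical
  haveI : IsLocalRing Bq := IsLocalization.AtPrime.isLocalRing Bq q
  haveI : Module.Flat B Bq := IsLocalization.flat Bq q.primeCompl
  haveI : Module.Flat A Bq := Module.Flat.trans A B Bq
  set I' : Ideal Bq := fibIdeal (A := A) q Bq with hI'
  haveI : IsNoetherianRing (Bq ⧸ I') := isNoetherianRing_fibre (A := A) q Bq
  haveI : Module.Flat A (Fin b → Bq) := Module.Flat.trans A Bq (Fin b → Bq)
  have hKfg : (LinearMap.ker p).FG := Module.FinitePresentation.fg_ker p hp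
  obtain ⟨c, κ, hκ⟩ := Submodule.fg_iff_exists_fin_generating_family.mp hKfg
  obtain ⟨v, hv⟩ : ∃ v : (Fin c → Bq) →ₗ[Bq] (Fin b → Bq), ∀ x, v x = ∑ i, x i • κ i :=
    ⟨Fintype.linearCombination Bq κ, fun x => Fintype.linearCombination_apply _ _ _⟩
  have hvrange : LinearMap.range v = LinearMap.ker p := by
    rw [← hκ]
    ext y
    rw [LinearMap.mem_range, Submodule.mem_span_range_iff_exists_fun]
    constructor
    · rintro ⟨x, rfl⟩; exact ⟨x, (hv x).symm⟩
    · rintro ⟨x, rfl⟩; exact ⟨x, hv x⟩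
  -- approximation of the relations
  obtain ⟨L₀, hL₀fg, hL₀le, hL₀sup⟩ := exists_fg_le_sup I' (LinearMap.ker v)
  haveI : Module.FinitePresentation Bq ((Fin c → Bq) ⧸ L₀) :=
    Module.finitePresentation_of_surjective L₀.mkQ L₀.mkQ_surjective (by
      rw [Submodule.ker_mkQ]; exact hL₀fg)
  obtain ⟨u, hu⟩ : ∃ u : ((Fin c → Bq) ⧸ L₀) →ₗ[Bq] (Fin b → Bq),
      ∀ z, u (Submodule.Quotient.mk z) = v z := ⟨L₀.liftQ v hL₀le, fun z => rfl⟩
  have hurange : LinearMap.range u = LinearMap.ker p := by
    rw [← hvrange]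
    ext y
    constructor
    · rintro ⟨x, rfl⟩
      obtain ⟨z, rfl⟩ := Submodule.Quotient.mk_surjective _ x
      exact ⟨z, (hu z).symm⟩
    · rintro ⟨z, rfl⟩
      exact ⟨Submodule.Quotient.mk z, hu z⟩
  have key := fibInj (A := A) q Bq u (by
    intro x hx
    obtain ⟨z, rfl⟩ := Submodule.Quotient.mk_surjective _ x
    rw [hu] at hx
    have hvz : v z ∈ LinearMap.ker p := by rw [← hvrange]; exact ⟨z, rfl⟩
    have h3 := hstep3 _ hvz hx
    -- `v z = v z'` with `z' ∈ I' • ⊤`
    have h4 : ∀ y ∈ I' • LinearMap.ker p, ∃ z' ∈ I' • (⊤ : Submodule Bq (Fin c → Bq)),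
        v z' = y := by
      intro y hy
      induction hy using Submodule.smul_induction_on' with
      | smul a ha k hk =>
        rw [← hvrange] at hk
        obtain ⟨zk, rfl⟩ := hk
        exact ⟨a • zk, Submodule.smul_mem_smul ha trivial, by rw [map_smul]⟩
      | add x y _ _ ihx ihy =>
        obtain ⟨z1, hz1, e1⟩ := ihx
        obtain ⟨z2, hz2, e2⟩ := ihy
        exact ⟨z1 + z2, Submodule.add_mem _ hz1 hz2, by rw [map_add, e1, e2]⟩
    obtain ⟨z', hz', hvz'⟩ := h4 _ h3
    have h5 : z - z' ∈ LinearMap.ker v := by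
      rw [LinearMap.mem_ker, map_sub, hvz', sub_self]
    have h6 := hL₀sup h5
    obtain ⟨l, hl, w, hw, hlw⟩ := Submodule.mem_sup.mp h6
    have h7 : (Submodule.Quotient.mk z : (Fin c → Bq) ⧸ L₀) = L₀.mkQ (w + z') := by
      rw [Submodule.mkQ_apply, Submodule.Quotient.eq]
      have : z - (w + z') = l := by
        calc z - (w + z') = (z - z') - w := by abel
          _ = l := by rw [← hlw]; abel
      rw [this]; exact hl
    rw [h7]
    have h8 : w + z' ∈ I' • (⊤ : Submodule Bq (Fin c → Bq)) := Submodule.add_mem _ hw hz'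
    have h9 := Submodule.mem_map_of_mem (f := L₀.mkQ) h8
    rw [Submodule.map_smul'', Submodule.map_top, Submodule.range_mkQ] at h9
    exact h9)
  haveI := key.2
  rw [hurange] at *
  have e : ((Fin b → Bq) ⧸ LinearMap.ker p) ≃ₗ[Bq] M := p.quotKerEquivOfSurjective hp
  exact Module.Flat.of_linearEquiv (e.restrictScalars A).symm

include q in
/-- **Regular element criterion**: `M` finitely presented over the local ring `Bq` of a flat
finitely presented `A`-algebra, `h` a non-unit of `Bq` which is `M`-regular, and `M/hM` (given as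
a surjection `π'` with kernel `hM`) flat over `A`.  Then `M` is flat over `A`. -/
theorem flat_of_regular_of_flat_quot [Module.FinitePresentation Bq M]
    (h : Bq) (hh : ¬ IsUnit h) (hreg : ∀ m : M, h • m = 0 → m = 0)
    {M' : Type u} [AddCommGroup M'] [Module A M'] [Module.Flat A M']
    (π' : M →ₗ[A] M') (hπ' : Surjective π') (hker : ∀ m, π' m = 0 ↔ ∃ m', m = h • m') :
    Module.Flat A M := by
  classical
  haveI : IsLocalRing Bq := IsLocalization.AtPrime.isLocalRing Bq q
  set I' := fibIdeal (A := A) q Bq with hI'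
  haveI : IsNoetherianRing (Bq ⧸ I') := isNoetherianRing_fibre (A := A) q Bq
  obtain ⟨b, p, hp⟩ := Module.Finite.exists_fin' Bq M
  refine flat_of_ker_inter_le q Bq p hp ?_
  set K := LinearMap.ker p with hK
  set N : Submodule Bq (Fin b → Bq) := K ⊓ I' • ⊤ with hN
  suffices hNle : N ≤ I' • K from fun x hxK hxI => hNle ⟨hxK, hxI⟩
  -- finitely generated approximation of `N` modulo `I' K`
  have hKfg : K.FG := Module.FinitePresentation.fg_ker p hp
  obtain ⟨c, κ, hκ⟩ := Submodule.fg_iff_exists_fin_generating_family.mp hKfg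
  let v : (Fin c → Bq) →ₗ[Bq] (Fin b → Bq) := Fintype.linearCombination Bq κ
  have hvrange : LinearMap.range v = K := by rw [Fintype.range_linearCombination, hκ]
  obtain ⟨L₀, hL₀fg, hL₀le, hL₀sup⟩ :=
    exists_fg_le_sup I' ((I' • ⊤ : Submodule Bq (Fin b → Bq)).comap v)
  set N₀ := L₀.map v with hN₀def
  have hN₀fg : N₀.FG := hL₀fg.map v
  have hN₀le : N₀ ≤ N := by
    rintro _ ⟨l, hl, rfl⟩
    refine ⟨?_, hL₀le hl⟩
    rw [← hvrange]
    exact ⟨l, rfl⟩
  have hNsup : N ≤ N₀ ⊔ I' • K := by
    rintro x ⟨hxK, hxI⟩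
    rw [← hvrange] at hxK
    obtain ⟨l, rfl⟩ := hxK
    have hl : l ∈ (I' • ⊤ : Submodule Bq (Fin b → Bq)).comap v := hxI
    obtain ⟨l₀, hl₀, w, hw, rfl⟩ := Submodule.mem_sup.mp (hL₀sup hl)
    rw [map_add]
    refine Submodule.add_mem_sup (Submodule.mem_map_of_mem hl₀) ?_
    have h1 := Submodule.mem_map_of_mem (f := v) hw
    rwa [Submodule.map_smul'', Submodule.map_top, hvrange] at h1
  -- the key claim: `N ≤ I' K + h N`
  have hclaim : N ≤ I' • K ⊔ Ideal.span {h} • N := by
    rintro x ⟨hxK, hxI⟩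
    let pA : (Fin b → Bq) →ₗ[A] M := p.restrictScalars A
    let X : Submodule A (Fin b → Bq) := LinearMap.ker (π' ∘ₗ pA)
    have hpx : p x = 0 := hxK
    have hxX : x ∈ X := by
      change π' (p x) = 0
      rw [hpx, map_zero]
    have hsurj : Surjective (π' ∘ₗ pA) := hπ'.comp hp
    haveI : Module.Flat A ((Fin b → Bq) ⧸ LinearMap.range X.subtype) := by
      have h2 : LinearMap.range X.subtype = LinearMap.ker (π' ∘ₗ pA) := Submodule.range_subtype _
      exact Module.Flat.of_linearEquiv ((Submodule.quotEquivOfEq _ _ h2) ≪≫ₗ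
        (π' ∘ₗ pA).quotKerEquivOfSurjective hsurj)
    have hxI' : x ∈ (q.comap (algebraMap A B)) • (⊤ : Submodule A (Fin b → Bq)) :=
      (mem_fibIdeal_smul_top_iff q Bq x).mp hxI
    have h1 := FibreCrit.mem_smul_top_of_injective_of_flat X.subtype Subtype.val_injective
      (q.comap (algebraMap A B)) ⟨x, hxX⟩ hxI'
    have hC : ∀ w : X, w ∈ (q.comap (algebraMap A B)) • (⊤ : Submodule A X) →
        ∃ y ∈ I' • K, ∃ z ∈ I' • (⊤ : Submodule Bq (Fin b → Bq)),
          (w : Fin b → Bq) = y + h • z := by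
      intro w hw
      induction hw using Submodule.smul_induction_on' with
      | smul a ha xi _ =>
        have hxi : π' (p xi) = 0 := xi.2
        obtain ⟨m', hm'⟩ := (hker _).mp hxi
        obtain ⟨fi, rfl⟩ := hp m'
        have hki : (xi : Fin b → Bq) - h • fi ∈ K := by
          rw [hK, LinearMap.mem_ker, map_sub, map_smul, hm', sub_self]
        refine ⟨a • ((xi : Fin b → Bq) - h • fi), ?_, a • fi, ?_, ?_⟩
        · rw [← algebraMap_smul Bq a]
          exact Submodule.smul_mem_smul (Ideal.mem_map_of_mem _ ha) hki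
        · rw [← algebraMap_smul Bq a]
          exact Submodule.smul_mem_smul (Ideal.mem_map_of_mem _ ha) trivial
        · change a • (xi : Fin b → Bq) = _
          rw [smul_sub, smul_comm h a fi, sub_add_cancel]
      | add w₁ _ w₂ _ ih₁ ih₂ =>
        obtain ⟨y₁, hy₁, z₁, hz₁, e₁⟩ := ih₁
        obtain ⟨y₂, hy₂, z₂, hz₂, e₂⟩ := ih₂
        refine ⟨y₁ + y₂, Submodule.add_mem _ hy₁ hy₂, z₁ + z₂, Submodule.add_mem _ hz₁ hz₂, ?_⟩
        change (w₁ : Fin b → Bq) + (w₂ : Fin b → Bq) = _
        rw [e₁, e₂, smul_add]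
        abel
    obtain ⟨y, hy, z, hz, hxyz⟩ := hC ⟨x, hxX⟩ h1
    change x = y + h • z at hxyz
    have hyK : y ∈ K := Submodule.smul_le_right hy
    have hzK : z ∈ K := by
      have h3 : h • p z = 0 := by
        have h4 : h • z = x - y := by rw [hxyz]; abel
        rw [← map_smul, h4, map_sub, hpx, (show p y = 0 from hyK), sub_zero]
      exact hreg _ h3
    rw [hxyz]
    exact Submodule.add_mem_sup hy
      (Submodule.smul_mem_smul (Ideal.mem_span_singleton_self h) ⟨hzK, hz⟩)
  -- Nakayama
  have hjac : Ideal.span {h} ≤ Ideal.jacobson ⊥ := by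
    rw [IsLocalRing.jacobson_eq_maximalIdeal ⊥ bot_ne_top, Ideal.span_le, Set.singleton_subset_iff]
    exact (IsLocalRing.mem_maximalIdeal _).mpr hh
  have hN₀ : N₀ ≤ I' • K := by
    refine Submodule.le_of_le_smul_of_le_jacobson_bot hN₀fg hjac ?_
    have h2 : Ideal.span {h} • N ≤ I' • K ⊔ Ideal.span {h} • N₀ := by
      calc Ideal.span {h} • N ≤ Ideal.span {h} • (N₀ ⊔ I' • K) :=
            Submodule.smul_mono le_rfl hNsup
        _ = Ideal.span {h} • N₀ ⊔ Ideal.span {h} • (I' • K) := Submodule.smul_sup _ _ _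
        _ ≤ Ideal.span {h} • N₀ ⊔ I' • K := sup_le_sup_left Submodule.smul_le_right _
        _ = I' • K ⊔ Ideal.span {h} • N₀ := sup_comm _ _
    exact (hN₀le.trans hclaim).trans (sup_le le_sup_left h2)
  exact hNsup.trans (sup_le hN₀ le_rfl)

end LC

section NonFlat

open Groth.Agent.Lib.Helper23.FibCritEFP

variable {A B : Type u} [CommRing A] [CommRing B] [Algebra A B] [Algebra.FinitePresentation A B]
  (q : Ideal B) [q.IsPrime]
  (Bq : Type u) [CommRing Bq] [Algebra B Bq] [Algebra A Bq] [IsScalarTower A B Bq]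
  [IsLocalization.AtPrime Bq q]

include q in
/-- `Bq` a local ring of a finitely presented `A`-algebra, `h` a non-unit nonzerodivisor of `Bq`
with `Bq/h` flat over `A`.  Then `Bq` is flat over `A`. -/
theorem flat_of_nzd_of_flat_quot (h : Bq) (hh : ¬ IsUnit h) (hreg : ∀ z : Bq, h * z = 0 → z = 0)
    [Module.Flat A (Bq ⧸ Ideal.span {h})] : Module.Flat A Bq := by
  classical
  haveI : IsLocalRing Bq := IsLocalization.AtPrime.isLocalRing Bq q
  haveI : IsLocalization (⊥ : Submonoid A) A := IsLocalization.self bot_le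
  obtain ⟨m, q', hq', ψ, -, hψA, hψsurj, hψker⟩ :=
    exists_locPresentation (R := A) (S := A) (S' := Bq) A (⊥ : Submonoid A) B q.primeCompl
  letI modPq : Module (Localization.AtPrime q') Bq := Module.compHom Bq ψ
  have hsmul : ∀ (x : Localization.AtPrime q') (z : Bq), x • z = ψ x * z := fun _ _ => rfl
  haveI : IsScalarTower A (Localization.AtPrime q') Bq := ⟨fun a x z => by
    rw [hsmul, hsmul, Algebra.smul_def, map_mul, hψA, mul_assoc, ← Algebra.smul_def]⟩
  let l : Localization.AtPrime q' →ₗ[Localization.AtPrime q'] Bq :=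
    { toFun := ψ
      map_add' := map_add ψ
      map_smul' := fun r x => by
        change ψ (r * x) = ψ r * ψ x
        exact map_mul ψ r x }
  have hl : ∀ x, l x = ψ x := fun _ => rfl
  have hlker : LinearMap.ker l = RingHom.ker ψ := by
    ext x
    rw [LinearMap.mem_ker, hl]
    rfl
  haveI : Module.FinitePresentation (Localization.AtPrime q') Bq :=
    Module.finitePresentation_of_surjective l hψsurj (by rw [hlker]; exact hψker)
  obtain ⟨h', hh'⟩ := hψsurj h
  have hnu : ¬ IsUnit h' := fun hu => hh (hh' ▸ hu.map ψ)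
  let π' : Bq →ₗ[A] Bq ⧸ Ideal.span {h} := (Submodule.mkQ (Ideal.span {h})).restrictScalars A
  refine flat_of_regular_of_flat_quot (A := A) (B := MvPolynomial (Fin m) A) q'
    (Localization.AtPrime q') (M := Bq) h' hnu ?_ π' (Submodule.mkQ_surjective _) ?_
  · intro z hz
    rw [hsmul, hh'] at hz
    exact hreg z hz
  · intro z
    change Submodule.Quotient.mk z = 0 ↔ _
    rw [Submodule.Quotient.mk_eq_zero, Ideal.mem_span_singleton']
    constructor
    · rintro ⟨c, rfl⟩
      exact ⟨c, by rw [hsmul, hh', mul_comm]⟩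
    · rintro ⟨c, rfl⟩
      exact ⟨c, by rw [hsmul, hh', mul_comm]⟩

end NonFlat

end Groth.Agent.Lib27.LocCritGen
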