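import Mathlib
import Groth.Agent.Lib27.Flat.Limit

/-!
# Flatness modulo an ideal `I` descends to a finitely generated subideal
-/

set_option autoImplicit false
set_option linter.style.haveILetI false
set_option linter.unusedSectionVars false

open Function MvPolynomial

universe u

namespace Groth.Agent.Lib27.NilDescent

open Groth.Agent.Lib.Helper18.Fl Groth.Agent.Lib27.BCPres Groth.Agent.Lib27.Limit

variable {R S : Type u} [CommRing R] [CommRing S] [Algebra R S] (I : Ideal R)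

/-- the index type: finitely generated subideals of `I`. -/
abbrev Idx : Type u := {I₀ : Ideal R // I₀.FG ∧ I₀ ≤ I}

/-- the quotient `S / I₀ S`. -/
abbrev G (i : Idx I) : Type u := S ⧸ (i.1.map (algebraMap R S))

/-- the transition maps. -/
noncomputable def tr (i j : Idx I) (h : i ≤ j) : G (S := S) I i →+* G (S := S) I j :=
  Ideal.Quotient.factor (Ideal.map_mono h)

noncomputable instance algGA (i : Idx I) : Algebra (G (S := S) I i) (S ⧸ I.map (algebraMap R S)) :=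
  (Ideal.Quotient.factor (Ideal.map_mono i.2.2)).toAlgebra

instance towerGA (i : Idx I) : IsScalarTower S (G (S := S) I i) (S ⧸ I.map (algebraMap R S)) :=
  IsScalarTower.of_algebraMap_eq fun _ => rfl

theorem isDirectedColimitRing :
    FlatCA.IsDirectedColimitRing (G (S := S) I) (tr (S := S) I) (S ⧸ I.map (algebraMap R S)) := by
  refine ⟨⟨fun i j => ⟨⟨i.1 ⊔ j.1, Submodule.FG.sup i.2.1 j.2.1, sup_le i.2.2 j.2.2⟩,
      (le_sup_left : i.1 ≤ i.1 ⊔ j.1), (le_sup_right : j.1 ≤ i.1 ⊔ j.1)⟩⟩,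
    ⟨⟨⊥, Submodule.fg_bot, bot_le⟩⟩, ?_, ?_, ?_, ?_, ?_⟩
  · intro i
    ext x
    rfl
  · intro i j k hij hjk
    ext x
    rfl
  · intro i j h
    ext x
    rfl
  · intro a
    obtain ⟨s, rfl⟩ := Ideal.Quotient.mk_surjective a
    exact ⟨⟨⊥, Submodule.fg_bot, bot_le⟩, Ideal.Quotient.mk _ s, rfl⟩
  · intro i x hx
    obtain ⟨s, rfl⟩ := Ideal.Quotient.mk_surjective x
    have hs : s ∈ I.map (algebraMap R S) := by
      rw [← Ideal.Quotient.eq_zero_iff_mem]
      exact hx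
    -- `s` lies in `I₁ S` for a finitely generated `I₁ ≤ I`
    obtain ⟨I₁, hI₁fg, hI₁le, hsI₁⟩ : ∃ I₁ : Ideal R, I₁.FG ∧ I₁ ≤ I ∧
        s ∈ I₁.map (algebraMap R S) := by
      refine Submodule.span_induction (p := fun s _ => ∃ I₁ : Ideal R, I₁.FG ∧ I₁ ≤ I ∧
        s ∈ I₁.map (algebraMap R S)) ?_ ?_ ?_ ?_ hs
      · rintro _ ⟨a, ha, rfl⟩
        refine ⟨Ideal.span {a}, ⟨{a}, by simp⟩, ?_, ?_⟩
        · rw [Ideal.span_le]
          simpa using ha
        · exact Ideal.mem_map_of_mem _ (Ideal.subset_span rfl)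
      · exact ⟨⊥, Submodule.fg_bot, bot_le, Ideal.zero_mem _⟩
      · rintro x y _ _ ⟨I₁, h1, h2, h3⟩ ⟨I₂, h1', h2', h3'⟩
        refine ⟨I₁ ⊔ I₂, Submodule.FG.sup h1 h1', sup_le h2 h2', ?_⟩
        exact Ideal.add_mem _ (Ideal.map_mono le_sup_left h3) (Ideal.map_mono le_sup_right h3')
      · rintro a x _ ⟨I₁, h1, h2, h3⟩
        exact ⟨I₁, h1, h2, Ideal.mul_mem_left _ _ h3⟩
    refine ⟨⟨i.1 ⊔ I₁, Submodule.FG.sup i.2.1 hI₁fg, sup_le i.2.2 hI₁le⟩,
      (le_sup_left : i.1 ≤ i.1 ⊔ I₁), ?_⟩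
    change Ideal.Quotient.mk _ s = 0
    rw [Ideal.Quotient.eq_zero_iff_mem]
    exact Ideal.map_mono le_sup_right hsI₁

/-- **Descent**: flatness of a presented module modulo `I` holds already modulo a finitely
generated subideal. -/
theorem exists_fg_le_flat {n m r : ℕ} (g₀ : Fin m → Fin r → MvPolynomial (Fin n) S)
    [hflat : Module.Flat (S ⧸ I.map (algebraMap R S))
      ((Fin r → MvPolynomial (Fin n) (S ⧸ I.map (algebraMap R S))) ⧸
        Kspan (fun i => mapVec (algebraMap S (S ⧸ I.map (algebraMap R S))) (g₀ i)))] :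
    ∃ I₀ : Ideal R, I₀.FG ∧ I₀ ≤ I ∧
      Module.Flat (S ⧸ I₀.map (algebraMap R S))
        ((Fin r → MvPolynomial (Fin n) (S ⧸ I₀.map (algebraMap R S))) ⧸
          Kspan (fun i => mapVec (algebraMap S (S ⧸ I₀.map (algebraMap R S))) (g₀ i))) := by
  obtain ⟨j, hj⟩ := exists_stage_flat (isDirectedColimitRing (S := S) I) (A₀ := S)
    (fun i j h => by ext x; rfl) g₀
  exact ⟨j.1, j.2.1, j.2.2, hj⟩

end Groth.Agent.Lib27.NilDescent
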