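import Mathlib
import Groth.Agent.Lib27.Flat.Syz

/-!
# Projective dimension equals Tor-dimension for f.p. modules flat over the base
-/

set_option autoImplicit false
set_option linter.style.haveILetI false
set_option linter.unusedSectionVars false

universe u

open CategoryTheory CategoryTheory.Limits Function TensorProduct MonoidalCategory

namespace Groth.Agent.Lib27.Syz

open Groth.Agent.Lib27.Resol Groth.Agent.Lib27.PseudoCoh Groth.Agent.Lib27.FibInj
  Groth.Agent.Lib27.FreeRes Groth.Agent.Lib.Helper2.TorBalance Groth.Agent.Lib.Helper4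
  Groth.Agent.Lib.Helper21

variable (A : Type u) {B : Type u} [CommRing A] [CommRing B] [Algebra A B]

omit [Algebra A B] in
lemma isZero_iff_torVanish_zero (M : ModuleCat.{u} B) : IsZero M ↔ TorVanish M 0 := by
  constructor
  · intro hM i _ N
    haveI : Subsingleton M := ModuleCat.subsingleton_of_isZero hM
    rcases Nat.eq_zero_or_pos i with rfl | hi
    · obtain ⟨e⟩ := tor_zero_iso (M := M) N
      refine IsZero.of_iso ?_ e
      haveI : Subsingleton (M ⊗[B] N) := inferInstance
      exact ModuleCat.isZero_of_subsingleton (ModuleCat.of B (M ⊗[B] N))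
    · haveI : Module.Flat B M := inferInstance
      exact isZero_tor_of_flat M N i hi
  · intro h
    obtain ⟨e⟩ := tor_zero_iso (M := M) (𝟙_ (ModuleCat.{u} B))
    exact ((h 0 le_rfl (𝟙_ (ModuleCat.{u} B))).of_iso e.symm).of_iso (ρ_ M).symm

variable [Algebra.FinitePresentation A B] [Module.Flat A B]

theorem hasProjectiveDimensionLT_iff_torVanish {M : ModuleCat.{u} B} (hM : Q A B M) :
    ∀ k : ℕ, HasProjectiveDimensionLT M k ↔ TorVanish M k
  | 0 => (hasProjectiveDimensionLT_zero_iff_isZero (X := M)).trans (isZero_iff_torVanish_zero M)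
  | k + 1 => by
    have h1 := hasProjectiveDimensionLT_iff_projective_syz A hM k 0
    have h2 := torVanish_one_iff_projective A hM (0 + k)
    have h3 := torVanish_iff_syz A hM k 0
    exact h1.trans (h2.symm.trans h3.symm)

theorem projectiveDimension_eq_torDimension (M : Type u) [AddCommGroup M] [Module B M]
    [Module A M] [IsScalarTower A B M] [Module.FinitePresentation B M] [Module.Flat A M] :
    projectiveDimension (ModuleCat.of B M) =
      sInf {n : WithBot ℕ∞ | ∀ i : ℕ, n < i → ∀ N : ModuleCat.{u} B,
        Limits.IsZero (((Tor (ModuleCat.{u} B) i).obj (ModuleCat.of B M)).obj N)} := by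
  have hM : Q A B (ModuleCat.of B M) :=
    ⟨inferInstanceAs (Module.FinitePresentation B M), flat_compHom_iff.mpr ‹_›⟩
  unfold projectiveDimension
  congr 1
  ext n
  simp only [Set.mem_ofPred_eq]
  constructor
  · intro h i hi N
    exact (hasProjectiveDimensionLT_iff_torVanish A hM i).mp (h i hi) i le_rfl N
  · intro h i hi
    rw [hasProjectiveDimensionLT_iff_torVanish A hM i]
    intro j hj N
    exact h j (lt_of_lt_of_le hi (by exact_mod_cast hj)) N

end Groth.Agent.Lib27.Syz
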