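import Mathlib
import Groth.Agent.Lib27.Flat.PdFibre
import Groth.Agent.Lib27.Sch.LocalCore
import Groth.Agent.Lib.Helper18.FlA

/-!
# Upper semicontinuity of the fibrewise projective dimension of a flat f.p. module
-/

set_option autoImplicit false
set_option linter.style.haveILetI false
set_option linter.unusedSectionVars false

universe u

open CategoryTheory CategoryTheory.Limits Function TensorProduct

namespace Groth.Agent.Lib27.PdUSC

open Groth.Agent.Lib27.Resol Groth.Agent.Lib27.PseudoCoh Groth.Agent.Lib27.FibInj
  Groth.Agent.Lib27.FreeRes Groth.Agent.Lib27.Syz Groth.Agent.Lib27.PdFibre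
  Groth.Agent.Lib27.LocalCore

section Generic

variable (A : Type u) {B : Type u} [CommRing A] [CommRing B] [Algebra A B]
  (R : Type u) [CommRing R] [Algebra B R]

variable (B) in
/-- base change to `R` preserves injectivity of `B`-linear maps with `A`-flat cokernel. -/
def PresInj : Prop :=
  ∀ (X Y : Type u) [AddCommGroup X] [Module B X] [Module A X] [IsScalarTower A B X]
    [AddCommGroup Y] [Module B Y] [Module A Y] [IsScalarTower A B Y] (f : X →ₗ[B] Y),
    Injective f → Module.Flat A (Y ⧸ LinearMap.range (f.restrictScalars A)) →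
    Injective (f.baseChange R)

/-- the base change of a `B`-module to `R`. -/
noncomputable abbrev fib (X : ModuleCat.{u} B) : ModuleCat.{u} R := ModuleCat.of R (R ⊗[B] X)

/-- the induced map on base changes. -/
noncomputable abbrev fibMap {X Y : ModuleCat.{u} B} (f : X ⟶ Y) : fib R X ⟶ fib R Y :=
  ModuleCat.ofHom (f.hom.baseChange R)

/-- the base change of the syzygy sequence. -/
noncomputable def fsc (M : ModuleCat.{u} B) (j : ℕ) : ShortComplex (ModuleCat.{u} R) :=
  ShortComplex.mk (fibMap R (sc B M j).f) (fibMap R (sc B M j).g) (by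
    have h0 : (sc B M j).g.hom ∘ₗ (sc B M j).f.hom = 0 := by
      have := (sc B M j).zero
      exact congrArg ModuleCat.Hom.hom this
    apply ModuleCat.hom_ext
    change ((sc B M j).g.hom.baseChange R ∘ₗ (sc B M j).f.hom.baseChange R) = 0
    rw [← LinearMap.baseChange_comp, h0, LinearMap.baseChange_zero])

variable [Algebra.FinitePresentation A B] [Module.Flat A B]

variable {R} in
lemma fsc_shortExact (hR : PresInj A B R) {M : ModuleCat.{u} B} (hM : Q A B M) (j : ℕ) :
    (fsc R M j).ShortExact := by
  have hS := sc_shortExact A hM j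
  have hsurj : Surjective (sc B M j).g.hom := (ModuleCat.epi_iff_surjective _).mp hS.epi_g
  have hinj : Injective (sc B M j).f.hom := (ModuleCat.mono_iff_injective _).mp hS.mono_f
  have hex : Function.Exact (sc B M j).f.hom (sc B M j).g.hom :=
    (ShortComplex.ShortExact.moduleCat_exact_iff_function_exact _).mp hS.exact
  refine ModuleCat.shortComplex_shortExact _ ?_ ?_ ?_
  · change Function.Exact ((sc B M j).f.hom.baseChange R) ((sc B M j).g.hom.baseChange R)
    rw [LinearMap.baseChange_eq_ltensor, LinearMap.baseChange_eq_ltensor]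
    exact lTensor_exact _ hex hsurj
  · change Injective ((sc B M j).f.hom.baseChange R)
    letI : Module A (sc B M j).X₁ := Module.compHom _ (algebraMap A B)
    letI : Module A (sc B M j).X₂ := Module.compHom _ (algebraMap A B)
    letI : Module A (sc B M j).X₃ := Module.compHom _ (algebraMap A B)
    haveI : IsScalarTower A B (sc B M j).X₁ := IsScalarTower.of_algebraMap_smul fun _ _ => rfl
    haveI : IsScalarTower A B (sc B M j).X₂ := IsScalarTower.of_algebraMap_smul fun _ _ => rfl
    haveI : IsScalarTower A B (sc B M j).X₃ := IsScalarTower.of_algebraMap_smul fun _ _ => rfl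
    haveI : Module.Flat A (sc B M j).X₃ := (Q_syz A hM j).2
    have hker : LinearMap.range ((sc B M j).f.hom.restrictScalars A) =
        LinearMap.ker ((sc B M j).g.hom.restrictScalars A) := by
      ext y
      exact (hex y).symm
    have hfl : Module.Flat A ((sc B M j).X₂ ⧸
        LinearMap.range ((sc B M j).f.hom.restrictScalars A)) :=
      Module.Flat.of_linearEquiv (Submodule.quotEquivOfEq _ _ hker ≪≫ₗ
        ((sc B M j).g.hom.restrictScalars A).quotKerEquivOfSurjective hsurj)
    exact hR _ _ (sc B M j).f.hom hinj hfl
  · change Surjective ((sc B M j).g.hom.baseChange R)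
    rw [LinearMap.baseChange_eq_ltensor]
    exact LinearMap.lTensor_surjective _ hsurj

lemma projective_fsc_X₂ (M : ModuleCat.{u} B) (j : ℕ) : Projective (fsc R M j).X₂ := by
  haveI : Module.Free R (R ⊗[B] (Fin (pres B (syz B M j)).1 → B)) := inferInstance
  exact ModuleCat.projective_of_categoryTheory_projective
    (ModuleCat.of R (R ⊗[B] (Fin (pres B (syz B M j)).1 → B)))

variable {R} in
/-- dimension shifting on the base change. -/
lemma fib_hasProjectiveDimensionLT_iff (hR : PresInj A B R) {M : ModuleCat.{u} B} (hM : Q A B M)
    (k : ℕ) :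
    HasProjectiveDimensionLT (fib R M) (k + 1) ↔ Projective (fib R (syz B M k)) := by
  have := hasProjectiveDimensionLT_iff_projective (fun j => fib R (syz B M j))
    (fun j => fsc R M j) (fun j => fsc_shortExact A hR hM j)
    (fun j => projective_fsc_X₂ R M j) (fun j => Iso.refl _) (fun j => Iso.refl _) k 0
  rw [Nat.zero_add] at this
  exact this

end Generic

section Concrete

variable (A : Type u) [CommRing A] {B : Type u} [CommRing B] [Algebra A B] (q : Ideal B) [q.IsPrime]

/-- the fibre ideal `p B_q`. -/
abbrev J : Ideal (Localization.AtPrime q) := fibIdeal (A := A) q (Localization.AtPrime q)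

/-- the local ring of the fibre at `q`. -/
abbrev Rq : Type u := Localization.AtPrime q ⧸ J A q

variable (X : Type u) [AddCommGroup X] [Module B X]

/-- `R_q ⊗_B X ≃ (B_q ⊗_B X) / J (B_q ⊗_B X)`. -/
noncomputable def phi :
    (Rq A q ⊗[B] X) ≃ₗ[Rq A q]
      (Localization.AtPrime q ⊗[B] X) ⧸
        (J A q • (⊤ : Submodule (Localization.AtPrime q) (Localization.AtPrime q ⊗[B] X))) :=
  (TensorProduct.AlgebraTensorModule.cancelBaseChange B (Localization.AtPrime q) (Rq A q)
      (Rq A q) X).symm ≪≫ₗ
    (TensorProduct.quotTensorEquivQuotSMul (Localization.AtPrime q ⊗[B] X)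
      (J A q)).extendScalarsOfSurjective Ideal.Quotient.mk_surjective

lemma phi_tmul (l : Localization.AtPrime q) (x : X) :
    phi A q X ((Ideal.Quotient.mk (J A q) l) ⊗ₜ[B] x) = Submodule.Quotient.mk (l ⊗ₜ[B] x) := by
  simp only [phi, LinearEquiv.trans_apply,
    TensorProduct.AlgebraTensorModule.cancelBaseChange_symm_tmul]
  rw [LinearEquiv.extendScalarsOfSurjective_apply, TensorProduct.quotTensorEquivQuotSMul_mk_tmul,
    TensorProduct.smul_tmul', smul_eq_mul, mul_one]

variable {X} {Y : Type u} [AddCommGroup Y] [Module B Y]

lemma phi_naturality (f : X →ₗ[B] Y) (z : Rq A q ⊗[B] X) :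
    phi A q Y (f.baseChange (Rq A q) z) =
      Submodule.mapQ _ _ (f.baseChange (Localization.AtPrime q))
        (Submodule.smul_top_le_comap_smul_top (J A q) _) (phi A q X z) := by
  induction z using TensorProduct.induction_on with
  | zero => simp
  | add z₁ z₂ h₁ h₂ => simp only [map_add, h₁, h₂]
  | tmul r x =>
    obtain ⟨l, rfl⟩ := Ideal.Quotient.mk_surjective r
    rw [LinearMap.baseChange_tmul, phi_tmul, phi_tmul, Submodule.mapQ_apply,
      LinearMap.baseChange_tmul]

/-- base change to the local ring of the fibre preserves injections with `A`-flat cokernel. -/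
theorem presInj : PresInj A B (Rq A q) := by
  intro X Y _ _ _ _ _ _ _ _ f hinj hflat
  set g := f.baseChange (Localization.AtPrime q) with hg
  haveI : Module.Flat B (Localization.AtPrime q) := IsLocalization.flat _ q.primeCompl
  have hginj : Injective g := by
    rw [hg, LinearMap.baseChange_eq_ltensor]
    exact Module.Flat.lTensor_preserves_injective_linearMap f hinj
  -- the cokernel of `g` is `A`-flat
  haveI hC : Module.Flat A (Y ⧸ LinearMap.range f) := hflat
  have hex : Function.Exact g ((LinearMap.range f).mkQ.baseChange (Localization.AtPrime q)) := by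
    rw [hg, LinearMap.baseChange_eq_ltensor, LinearMap.baseChange_eq_ltensor]
    exact lTensor_exact _ (LinearMap.exact_map_mkQ_range f) (Submodule.mkQ_surjective _)
  have hsurj : Surjective ((LinearMap.range f).mkQ.baseChange (Localization.AtPrime q)) := by
    rw [LinearMap.baseChange_eq_ltensor]
    exact LinearMap.lTensor_surjective _ (Submodule.mkQ_surjective _)
  have e1 := Function.Exact.linearEquivOfSurjective hex hsurj
  have e2 : Localization.AtPrime q ⊗[B] (Y ⧸ LinearMap.range f) ≃ₗ[B]
      LocalizedModule q.primeCompl (Y ⧸ LinearMap.range f) :=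
    IsLocalizedModule.linearEquiv q.primeCompl
      (TensorProduct.mk B (Localization.AtPrime q) (Y ⧸ LinearMap.range f) 1)
      (LocalizedModule.mkLinearMap q.primeCompl (Y ⧸ LinearMap.range f))
  haveI : Module.Flat A (LocalizedModule q.primeCompl (Y ⧸ LinearMap.range f)) :=
    Groth.Agent.Lib.Helper18.Fl.flat_localizedModule q.primeCompl
  have hgfl : Module.Flat A ((Localization.AtPrime q ⊗[B] Y) ⧸ LinearMap.range g) :=
    Module.Flat.of_linearEquiv (e1.restrictScalars A ≪≫ₗ e2.restrictScalars A)
  have key := mem_of_injective_of_flat q (Localization.AtPrime q) g hginj hgfl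
  rw [injective_iff_map_eq_zero]
  intro z hz
  obtain ⟨w, hw⟩ := Submodule.Quotient.mk_surjective _ (phi A q X z)
  have h1 := phi_naturality A q f z
  rw [hz, map_zero, ← hw, Submodule.mapQ_apply] at h1
  have h2 := key w ((Submodule.Quotient.mk_eq_zero _).mp h1.symm)
  have h3 : phi A q X z = 0 := by
    rw [← hw]
    exact (Submodule.Quotient.mk_eq_zero _).mpr h2
  exact (phi A q X).injective (by rw [h3, map_zero])

section Flat

variable (C : Type u) [AddCommGroup C] [Module B C] [Module A C] [IsScalarTower A B C]

/-- the localization of an `A`-flat `B`-module is `A`-flat (tensor form). -/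
lemma flat_tensor_localization [Module.Flat A C] :
    Module.Flat A (Localization.AtPrime q ⊗[B] C) := by
  have e2 : Localization.AtPrime q ⊗[B] C ≃ₗ[B] LocalizedModule q.primeCompl C :=
    IsLocalizedModule.linearEquiv q.primeCompl
      (TensorProduct.mk B (Localization.AtPrime q) C 1)
      (LocalizedModule.mkLinearMap q.primeCompl C)
  haveI : Module.Flat A (LocalizedModule q.primeCompl C) :=
    Groth.Agent.Lib.Helper18.Fl.flat_localizedModule q.primeCompl
  exact Module.Flat.of_linearEquiv (e2.restrictScalars A)

/-- the fibre at `q` of a finitely presented `A`-flat module is projective iff `q` lies in the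
free locus. -/
theorem projective_tensor_iff [Algebra.FinitePresentation A B] [Module.FinitePresentation B C]
    [Module.Flat A C] :
    Module.Projective (Rq A q) (Rq A q ⊗[B] C) ↔
      (⟨q, inferInstance⟩ : PrimeSpectrum B) ∈ Module.freeLocus B C := by
  rw [Module.mem_freeLocus_iff_tensor (⟨q, inferInstance⟩ : PrimeSpectrum B)
    (Localization.AtPrime q)]
  constructor
  · intro h
    haveI := h
    haveI : Module.Flat A (Localization.AtPrime q ⊗[B] C) := flat_tensor_localization A q C
    haveI : Module.Flat (Rq A q) (Rq A q ⊗[B] C) := Module.Flat.of_projective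
    have hfl : Module.Flat (Rq A q) ((Localization.AtPrime q ⊗[B] C) ⧸
        (J A q • (⊤ : Submodule (Localization.AtPrime q) (Localization.AtPrime q ⊗[B] C)))) :=
      Module.Flat.of_linearEquiv (phi A q C).symm
    exact free_of_flat_of_fibre_flat q (Localization.AtPrime q) hfl
  · intro h
    haveI := h
    haveI : Module.Free (Rq A q) (Rq A q ⊗[Localization.AtPrime q]
        (Localization.AtPrime q ⊗[B] C)) := inferInstance
    haveI : Module.Free (Rq A q) (Rq A q ⊗[B] C) :=
      Module.Free.of_equiv (TensorProduct.AlgebraTensorModule.cancelBaseChange B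
        (Localization.AtPrime q) (Rq A q) (Rq A q) C)
    infer_instance

omit [Module A C] [IsScalarTower A B C] in
/-- the fibre at `q` of a finite module vanishes iff `q` is outside the support. -/
theorem subsingleton_tensor_iff [Module.Finite B C] :
    Subsingleton (Rq A q ⊗[B] C) ↔
      (⟨q, inferInstance⟩ : PrimeSpectrum B) ∉ Module.support B C := by
  haveI : IsLocalRing (Localization.AtPrime q) := IsLocalization.AtPrime.isLocalRing _ q
  have e2 : Localization.AtPrime q ⊗[B] C ≃ₗ[B] LocalizedModule q.primeCompl C :=
    IsLocalizedModule.linearEquiv q.primeCompl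
      (TensorProduct.mk B (Localization.AtPrime q) C 1)
      (LocalizedModule.mkLinearMap q.primeCompl C)
  rw [Module.notMem_support_iff]
  constructor
  · intro h
    haveI : Subsingleton ((Localization.AtPrime q ⊗[B] C) ⧸
        (J A q • (⊤ : Submodule (Localization.AtPrime q) (Localization.AtPrime q ⊗[B] C)))) :=
      (phi A q C).symm.subsingleton
    have h1 : J A q • (⊤ : Submodule (Localization.AtPrime q) (Localization.AtPrime q ⊗[B] C)) = ⊤ :=
      Submodule.Quotient.subsingleton_iff.mp inferInstance
    have h2 : (⊤ : Submodule (Localization.AtPrime q) (Localization.AtPrime q ⊗[B] C)) = ⊥ := by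
      refine Submodule.eq_bot_of_le_smul_of_le_jacobson_bot (J A q) _ Module.Finite.fg_top
        (le_of_eq h1.symm) ?_
      rw [IsLocalRing.jacobson_eq_maximalIdeal ⊥ bot_ne_top]
      exact fibIdeal_le_maximalIdeal q _
    haveI : Subsingleton (Localization.AtPrime q ⊗[B] C) :=
      (Submodule.subsingleton_iff (Localization.AtPrime q)).mp
        (subsingleton_iff_bot_eq_top.mp h2.symm)
    exact e2.symm.subsingleton
  · intro h
    haveI : Subsingleton (LocalizedModule q.primeCompl C) := h
    haveI : Subsingleton (Localization.AtPrime q ⊗[B] C) := e2.subsingleton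
    haveI : Subsingleton ((Localization.AtPrime q ⊗[B] C) ⧸
        (J A q • (⊤ : Submodule (Localization.AtPrime q) (Localization.AtPrime q ⊗[B] C)))) :=
      inferInstance
    exact (phi A q C).subsingleton

end Flat

end Concrete

section Final

variable (A : Type u) {B : Type u} [CommRing A] [CommRing B] [Algebra A B]
  [Algebra.FinitePresentation A B] [Module.Flat A B]

/-- `pd < k + 1` on the fibre at `P` iff `P` lies in the free locus of the `k`-th syzygy. -/
theorem hasProjectiveDimensionLT_succ_iff {M : ModuleCat.{u} B} (hM : Q A B M)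
    (P : PrimeSpectrum B) (k : ℕ) :
    HasProjectiveDimensionLT (fib (Rq A P.asIdeal) M) (k + 1) ↔
      P ∈ Module.freeLocus B (syz B M k) := by
  rw [fib_hasProjectiveDimensionLT_iff A (presInj A P.asIdeal) hM k]
  obtain ⟨h1, h2⟩ := Q_syz A hM k
  haveI := h1
  letI : Module A (syz B M k) := Module.compHom _ (algebraMap A B)
  haveI : IsScalarTower A B (syz B M k) := IsScalarTower.of_algebraMap_smul fun _ _ => rfl
  haveI : Module.Flat A (syz B M k) := h2
  rw [← projective_tensor_iff A P.asIdeal (syz B M k)]
  exact (IsProjective.iff_projective (R := Rq A P.asIdeal)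
    (P := Rq A P.asIdeal ⊗[B] (syz B M k))).symm

omit [Algebra.FinitePresentation A B] [Module.Flat A B] in
/-- `pd < 0` on the fibre at `P` iff `P` is outside the support. -/
theorem hasProjectiveDimensionLT_zero_iff (M : ModuleCat.{u} B) [Module.Finite B M]
    (P : PrimeSpectrum B) :
    HasProjectiveDimensionLT (fib (Rq A P.asIdeal) M) 0 ↔ P ∉ Module.support B M := by
  rw [hasProjectiveDimensionLT_zero_iff_isZero, ← subsingleton_tensor_iff A P.asIdeal M]
  constructor
  · intro h
    exact ModuleCat.subsingleton_of_isZero h
  · intro h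
    haveI : Subsingleton (Rq A P.asIdeal ⊗[B] M) := h
    exact ModuleCat.isZero_of_subsingleton _

/-- upper semicontinuity of the fibrewise projective dimension. -/
theorem upperSemicontinuous_fibre_pd (M : Type u) [AddCommGroup M] [Module B M]
    [Module A M] [IsScalarTower A B M] [Module.FinitePresentation B M] [Module.Flat A M] :
    UpperSemicontinuous fun P : PrimeSpectrum B =>
      projectiveDimension (ModuleCat.of (Rq A P.asIdeal) (Rq A P.asIdeal ⊗[B] M)) := by
  have hM : Q A B (ModuleCat.of B M) :=
    ⟨inferInstanceAs (Module.FinitePresentation B M), flat_compHom_iff.mpr ‹_›⟩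
  haveI : Module.Finite B (ModuleCat.of B M) := inferInstanceAs (Module.Finite B M)
  rw [upperSemicontinuous_iff_isOpen_preimage]
  have hk : ∀ k : ℕ, IsOpen ((fun P : PrimeSpectrum B =>
      projectiveDimension (ModuleCat.of (Rq A P.asIdeal) (Rq A P.asIdeal ⊗[B] M))) ⁻¹'
        Set.Iio (k : WithBot ℕ∞)) := by
    intro k
    cases k with
    | zero =>
      have : ((fun P : PrimeSpectrum B =>
          projectiveDimension (ModuleCat.of (Rq A P.asIdeal) (Rq A P.asIdeal ⊗[B] M))) ⁻¹'
            Set.Iio ((0 : ℕ) : WithBot ℕ∞)) = (Module.support B M)ᶜ := by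
        ext P
        rw [Set.mem_preimage, Set.mem_Iio, projectiveDimension_lt_iff, Set.mem_compl_iff]
        exact hasProjectiveDimensionLT_zero_iff A (ModuleCat.of B M) P
      rw [this]
      exact (Module.isClosed_support (R := B) (M := M)).isOpen_compl
    | succ k =>
      have : ((fun P : PrimeSpectrum B =>
          projectiveDimension (ModuleCat.of (Rq A P.asIdeal) (Rq A P.asIdeal ⊗[B] M))) ⁻¹'
            Set.Iio ((k + 1 : ℕ) : WithBot ℕ∞)) =
          Module.freeLocus B (syz B (ModuleCat.of B M) k) := by
        ext P
        rw [Set.mem_preimage, Set.mem_Iio, projectiveDimension_lt_iff]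
        exact hasProjectiveDimensionLT_succ_iff A hM P k
      rw [this]
      haveI := (Q_syz A hM k).1
      exact Module.isOpen_freeLocus
  intro y
  induction y using WithBot.recBotCoe with
  | bot =>
    have : Set.Iio (⊥ : WithBot ℕ∞) = ∅ := Set.Iio_bot
    rw [this, Set.preimage_empty]
    exact isOpen_empty
  | coe y =>
    induction y using ENat.recTopCoe with
    | top =>
      have : Set.Iio (((⊤ : ℕ∞)) : WithBot ℕ∞) = ⋃ k : ℕ, Set.Iio (k : WithBot ℕ∞) := by
        ext x
        simp only [Set.mem_Iio, Set.mem_iUnion]
        constructor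
        · intro hx
          induction x using WithBot.recBotCoe with
          | bot => exact ⟨0, WithBot.bot_lt_coe _⟩
          | coe x =>
            induction x using ENat.recTopCoe with
            | top => exact absurd hx (lt_irrefl _)
            | coe n =>
              refine ⟨n + 1, ?_⟩
              exact_mod_cast Nat.lt_succ_self n
        · rintro ⟨k, hk'⟩
          refine lt_of_lt_of_le hk' ?_
          exact_mod_cast (le_top : (k : ℕ∞) ≤ ⊤)
      rw [this, Set.preimage_iUnion]
      exact isOpen_iUnion hk
    | coe k => exact hk k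

end Final

end Groth.Agent.Lib27.PdUSC
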