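import Mathlib
import Groth.Agent.Lib27.Sch.LocalCore
import Groth.Agent.Lib27.Flat.FibreCrit
import Groth.Agent.Lib.Helper18.FlA

/-!
# Lifting principality of an ideal from the fibre (helper27)

`A → B`, `I ⊆ B` a finitely generated ideal with `B/I` flat over `A` at a prime `q`.  If the image
of `I` in the local ring of the fibre `B_q / p B_q` is generated by the image of `g₀ ∈ I`, then
`I B_q = g₀ B_q`, and the same holds after inverting a single element outside `q`.
-/

set_option autoImplicit false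

namespace Groth.Agent.Lib27.PrincipalLift

open Function

universe u

section quot

variable {B : Type u} [CommRing B] (T : Submonoid B) (BT : Type u) [CommRing BT] [Algebra B BT]
  [IsLocalization T BT] (I : Ideal B)

/-- localization of `B ⧸ I`. -/
noncomputable def quotEquiv :
    LocalizedModule T (B ⧸ I) ≃ₗ[B] BT ⧸ I.map (algebraMap B BT) := by
  have h1 : (I : Submodule B B).localized' BT T (Algebra.linearMap B BT) =
      I.map (algebraMap B BT) := Ideal.localized'_eq_map BT T I
  exact (IsLocalizedModule.iso T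
    ((I : Submodule B B).toLocalizedQuotient' BT T (Algebra.linearMap B BT))) ≪≫ₗ
      (Submodule.quotEquivOfEq _ _ h1).restrictScalars B

include T in
theorem flat_quot_map {A : Type u} [CommRing A] [Algebra A B] [Algebra A BT]
    [IsScalarTower A B BT] [Module.Flat A (B ⧸ I)] :
    Module.Flat A (BT ⧸ I.map (algebraMap B BT)) := by
  haveI : Module.Flat A (LocalizedModule T (B ⧸ I)) :=
    Groth.Agent.Lib.Helper18.Fl.flat_localizedModule T
  exact Module.Flat.of_linearEquiv ((quotEquiv T BT I).restrictScalars A).symm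

end quot

section lift

variable {A B : Type u} [CommRing A] [CommRing B] [Algebra A B]
  (q : Ideal B) [q.IsPrime] (Bq : Type u) [CommRing Bq] [Algebra B Bq] [Algebra A Bq]
  [IsScalarTower A B Bq] [IsLocalization.AtPrime Bq q]

include q in
theorem map_eq_span_of_flat_quot (I : Ideal B) (hI : I.FG)
    [Module.Flat A (Bq ⧸ I.map (algebraMap B Bq))] (g₀ : B) (hg₀ : g₀ ∈ I)
    (hgen : ∀ i ∈ I, algebraMap B Bq i ∈
      Ideal.span {algebraMap B Bq g₀} ⊔ LocalCore.fibIdeal (A := A) q Bq) :
    I.map (algebraMap B Bq) = Ideal.span {algebraMap B Bq g₀} := by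
  haveI : IsLocalRing Bq := IsLocalization.AtPrime.isLocalRing Bq q
  set Iq := I.map (algebraMap B Bq) with hIq
  set J := LocalCore.fibIdeal (A := A) q Bq with hJ
  have hge : Ideal.span {algebraMap B Bq g₀} ≤ Iq := by
    rw [Ideal.span_le, Set.singleton_subset_iff]
    exact Ideal.mem_map_of_mem _ hg₀
  refine le_antisymm ?_ hge
  have hle : Iq ≤ Ideal.span {algebraMap B Bq g₀} ⊔ J := by
    rw [hIq, Ideal.map_le_iff_le_comap]
    intro i hi
    exact hgen i hi
  have hJm : J ≤ Ideal.jacobson ⊥ := by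
    rw [IsLocalRing.jacobson_eq_maximalIdeal ⊥ bot_ne_top]
    exact LocalCore.fibIdeal_le_maximalIdeal q Bq
  refine Submodule.le_of_le_smul_of_le_jacobson_bot (N' := Iq) (I := J) (hI.map _) hJm ?_
  intro w hw
  obtain ⟨c, hc, j, hj, rfl⟩ := Submodule.mem_sup.mp (hle hw)
  have hjI : j ∈ Iq := by
    have := Iq.sub_mem hw (hge hc)
    rwa [add_sub_cancel_left] at this
  refine Submodule.mem_sup.mpr ⟨c, hc, j, ?_, rfl⟩
  -- `Iq ∩ J ≤ J • Iq` by flatness
  let π : Bq →ₗ[Bq] Bq ⧸ Iq := Submodule.mkQ Iq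
  have hπ : Surjective π := Submodule.mkQ_surjective _
  have hker : LinearMap.ker π = Iq := Submodule.ker_mkQ _
  have hjk : j ∈ LinearMap.ker π := by rw [hker]; exact hjI
  have hz : ((⟨j, hjk⟩ : LinearMap.ker π) : Bq) ∈
      (q.comap (algebraMap A B)).map (algebraMap A Bq) • (⊤ : Submodule Bq Bq) := by
    rw [smul_eq_mul, Ideal.mul_top]
    exact hj
  have h1 := FibreCrit.mem_map_smul_ker_of_flat (R := A) (A := Bq) π hπ
    (q.comap (algebraMap A B)) ⟨j, hjk⟩ hz
  have h2 : j ∈ (q.comap (algebraMap A B)).map (algebraMap A Bq) • LinearMap.ker π := by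
    have h3 := Submodule.mem_map_of_mem (f := (LinearMap.ker π).subtype) h1
    rw [Submodule.map_smul'', Submodule.map_top, Submodule.range_subtype] at h3
    exact h3
  rw [hker] at h2
  exact h2

end lift

section spread

variable {B : Type u} [CommRing B] (q : Ideal B) [q.IsPrime] (Bq : Type u) [CommRing Bq]
  [Algebra B Bq] [IsLocalization.AtPrime Bq q]

include q Bq in
/-- an element whose image lies in the principal ideal `(g₀)` of `B_q` is pushed into `(g₀)` by
multiplication with an element outside `q`. -/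
theorem exists_mul_mem_span (g₀ i : B)
    (h : algebraMap B Bq i ∈ Ideal.span {algebraMap B Bq g₀}) :
    ∃ a : B, a ∉ q ∧ a * i ∈ Ideal.span {g₀} := by
  obtain ⟨c, hc⟩ := Ideal.mem_span_singleton'.1 h
  obtain ⟨⟨c', s⟩, hcs⟩ := IsLocalization.surj q.primeCompl c
  have h1 : algebraMap B Bq (s * i) = algebraMap B Bq (c' * g₀) := by
    rw [map_mul, map_mul, ← hc, ← hcs]
    ring
  obtain ⟨u, hu⟩ := (IsLocalization.eq_iff_exists q.primeCompl Bq).mp h1
  refine ⟨u * s, ?_, ?_⟩
  · exact (Ideal.IsPrime.mul_mem_iff_mem_or_mem inferInstance).not.mpr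
      (not_or.mpr ⟨u.2, s.2⟩)
  · rw [mul_assoc, hu, ← mul_assoc]
    exact Ideal.mul_mem_left _ _ (Ideal.mem_span_singleton_self g₀)

include q Bq in
theorem exists_away_map_eq_span (I : Ideal B) (hI : I.FG) (g₀ : B) (hg₀ : g₀ ∈ I)
    (h : I.map (algebraMap B Bq) = Ideal.span {algebraMap B Bq g₀}) :
    ∃ a : B, a ∉ q ∧ ∀ (Ba : Type u) [CommRing Ba] [Algebra B Ba] [IsLocalization.Away a Ba],
      I.map (algebraMap B Ba) = Ideal.span {algebraMap B Ba g₀} := by
  classical
  obtain ⟨T, hT⟩ := hI
  have hmem : ∀ t ∈ T, ∃ a : B, a ∉ q ∧ a * t ∈ Ideal.span {g₀} := by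
    intro t ht
    apply exists_mul_mem_span q Bq g₀ t
    rw [← h]
    exact Ideal.mem_map_of_mem _ (hT ▸ Ideal.subset_span ht)
  choose! a haq ha using hmem
  refine ⟨∏ t ∈ T, a t, ?_, ?_⟩
  · intro hprod
    obtain ⟨t, ht, hat⟩ := (Ideal.IsPrime.prod_mem_iff (hp := inferInstance)).mp hprod
    exact haq t ht hat
  · intro Ba _ _ _
    apply le_antisymm
    · rw [← hT, Ideal.map_span, Ideal.span_le]
      rintro _ ⟨t, ht, rfl⟩
      have h1 : (∏ t ∈ T, a t) * t ∈ Ideal.span {g₀} := by
        rw [← Finset.mul_prod_erase T a ht, mul_right_comm]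
        exact Ideal.mul_mem_right _ _ (ha t ht)
      have h2 : algebraMap B Ba ((∏ t ∈ T, a t) * t) ∈ Ideal.span {algebraMap B Ba g₀} := by
        have := Ideal.mem_map_of_mem (algebraMap B Ba) h1
        rwa [Ideal.map_span, Set.image_singleton] at this
      rw [map_mul] at h2
      have hu : IsUnit (algebraMap B Ba (∏ t ∈ T, a t)) :=
        IsLocalization.Away.algebraMap_isUnit _
      exact (Ideal.unit_mul_mem_iff_mem _ hu).mp h2
    · rw [Ideal.span_le, Set.singleton_subset_iff]
      exact Ideal.mem_map_of_mem _ hg₀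

end spread

end Groth.Agent.Lib27.PrincipalLift
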