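import Mathlib

/-!
# Containment of ideals checked on fibres over a reduced Noetherian base (helper27)

`A` reduced Noetherian, `B` an `A`-algebra, `I, I'` ideals of `B` with `B/I'` flat over `A`.
If locally at every prime `Q` of `B` one has `I ⊆ I' + (Q ∩ A) B`, then `I ⊆ I'`.
-/

set_option autoImplicit false

namespace Groth.Agent.Lib27.ReducedFibre

open Function

universe u

section base

variable {A : Type*} [CommRing A]

/-- in a reduced ring an element outside all minimal primes is a nonzerodivisor. -/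
theorem mem_nonZeroDivisors_of_notMem_minimalPrimes [IsReduced A] (s : A)
    (hs : ∀ p ∈ minimalPrimes A, s ∉ p) : s ∈ nonZeroDivisors A := by
  rw [mem_nonZeroDivisors_iff_right]
  intro t ht
  by_contra ht0
  have h1 : t ∉ sInf (minimalPrimes A) := by
    rw [minimalPrimes, Ideal.sInf_minimalPrimes]
    have h0 : (⊥ : Ideal A).radical = ⊥ := nilradical_eq_zero A
    rw [h0]
    exact ht0
  rw [Ideal.mem_sInf] at h1
  push Not at h1
  obtain ⟨p, hp, htp⟩ := h1
  have h2 : t * s ∈ p := by rw [ht]; exact p.zero_mem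
  exact hs p hp ((hp.1.1.mem_or_mem h2).resolve_left htp)

/-- elements of a minimal prime of a reduced ring die in the localization. -/
theorem exists_mul_eq_zero_of_mem_minimalPrimes [IsReduced A] {p : Ideal A}
    (hp : p ∈ minimalPrimes A) {x : A} (hx : x ∈ p) : ∃ s ∉ p, s * x = 0 := by
  haveI := hp.1.1
  have h1 := IsLocalization.AtPrime.radical_map_of_mem_minimalPrimes
    (A := Localization.AtPrime p) p ⊥ hp
  have h2 : algebraMap A (Localization.AtPrime p) x ∈
      (Ideal.map (algebraMap A (Localization.AtPrime p)) ⊥).radical := by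
    rw [h1]; exact Ideal.mem_map_of_mem _ hx
  obtain ⟨n, hn⟩ := h2
  rw [Ideal.map_bot, Ideal.mem_bot, ← map_pow,
    IsLocalization.map_eq_zero_iff p.primeCompl] at hn
  obtain ⟨s, hs⟩ := hn
  refine ⟨s, s.2, ?_⟩
  have h3 : ((s : A) * x) ^ (n + 1) = 0 := by
    calc ((s : A) * x) ^ (n + 1) = (s : A) ^ n * x * ((s : A) * x ^ n) := by ring
      _ = 0 := by rw [hs, mul_zero]
  exact pow_eq_zero_iff (n.succ_ne_zero) |>.mp h3

/-- a nonzero element of a flat module over a reduced Noetherian ring has annihilator inside a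
minimal prime. -/
theorem exists_minimalPrime_of_ne_zero [IsReduced A] [IsNoetherianRing A]
    {M : Type*} [AddCommGroup M] [Module A M] [Module.Flat A M] {m : M} (hm : m ≠ 0) :
    ∃ p ∈ minimalPrimes A, ∀ s : A, s • m = 0 → s ∈ p := by
  classical
  by_contra hcon
  push Not at hcon
  set 𝔞 : Ideal A := LinearMap.ker (LinearMap.toSpanSingleton A M m) with h𝔞
  have hmem : ∀ s, s ∈ 𝔞 ↔ s • m = 0 := fun s => by
    rw [h𝔞, LinearMap.mem_ker, LinearMap.toSpanSingleton_apply]
  have hfin : (minimalPrimes A).Finite := minimalPrimes.finite_of_isNoetherianRing A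
  have h1 : ¬ ((𝔞 : Set A) ⊆ ⋃ p ∈ (hfin.toFinset : Set (Ideal A)), (id p : Ideal A)) := by
    rw [Ideal.subset_union_prime (f := id) (⊤ : Ideal A) (⊤ : Ideal A)]
    · rintro ⟨p, hp, hle⟩
      rw [Set.Finite.mem_toFinset] at hp
      obtain ⟨s, hs, hsp⟩ := hcon p hp
      exact hsp (hle ((hmem s).mpr hs))
    · intro p hp _ _
      rw [Set.Finite.mem_toFinset] at hp
      exact hp.1.1
  rw [Set.not_subset] at h1
  obtain ⟨s, hs𝔞, hsU⟩ := h1
  have hsn : s ∈ nonZeroDivisors A := by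
    apply mem_nonZeroDivisors_of_notMem_minimalPrimes
    intro p hp hsp
    apply hsU
    simp only [Set.mem_iUnion]
    exact ⟨p, by simpa using hp, hsp⟩
  have hreg := Module.Flat.isSMulRegular_of_nonZeroDivisors (M := M) hsn
  apply hm
  apply hreg
  change s • m = s • 0
  rw [smul_zero]
  exact (hmem s).mp hs𝔞

end base

section main

variable {A B : Type*} [CommRing A] [CommRing B] [Algebra A B]

/-- **Containment of ideals on fibres.**  `A` reduced Noetherian, `B/I'` flat over `A`, and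
locally at every prime `Q` of `B`, `I ⊆ I' + (Q ∩ A) B`.  Then `I ⊆ I'`. -/
theorem le_of_forall_prime [IsReduced A] [IsNoetherianRing A] (I I' : Ideal B)
    [Module.Flat A (B ⧸ I')]
    (H : ∀ (Q : Ideal B) [Q.IsPrime], ∀ g ∈ I, ∃ s ∉ Q,
      s * g ∈ I' ⊔ (Q.comap (algebraMap A B)).map (algebraMap A B)) :
    I ≤ I' := by
  classical
  intro g hg
  by_contra hgI'
  have hm : (Ideal.Quotient.mk I' g : B ⧸ I') ≠ 0 := by
    rwa [Ne, Ideal.Quotient.eq_zero_iff_mem]
  obtain ⟨p, hp, hpann⟩ := exists_minimalPrime_of_ne_zero (A := A) hm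
  haveI : p.IsPrime := hp.1.1
  set 𝔟 : Ideal B := LinearMap.ker (LinearMap.toSpanSingleton B (B ⧸ I') (Ideal.Quotient.mk I' g))
    with h𝔟
  have hmem : ∀ b, b ∈ 𝔟 ↔ b * g ∈ I' := fun b => by
    rw [h𝔟, LinearMap.mem_ker, LinearMap.toSpanSingleton_apply, ← Ideal.Quotient.eq_zero_iff_mem,
      map_mul]
    rfl
  set S : Submonoid B := Submonoid.map (algebraMap A B) p.primeCompl with hS
  have hdisj : Disjoint (𝔟 : Set B) (S : Set B) := by
    rw [Set.disjoint_left]
    rintro _ hb ⟨s, hs, rfl⟩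
    apply hs
    apply hpann
    rw [Algebra.smul_def, IsScalarTower.algebraMap_apply A B (B ⧸ I'),
      Ideal.Quotient.algebraMap_eq, ← map_mul, Ideal.Quotient.eq_zero_iff_mem]
    exact (hmem _).mp hb
  obtain ⟨Q, hQprime, h𝔟Q, hQS⟩ := Ideal.exists_le_prime_disjoint 𝔟 S hdisj
  haveI := hQprime
  have hnotin : ∀ s : A, s ∉ p → algebraMap A B s ∉ Q := fun s hs hsQ =>
    Set.disjoint_left.mp hQS hsQ ⟨s, hs, rfl⟩
  have hcomap : Q.comap (algebraMap A B) = p := by
    have hle : Q.comap (algebraMap A B) ≤ p := by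
      intro a ha
      by_contra hap
      exact hnotin a hap ha
    exact le_antisymm hle (hp.2 ⟨Ideal.comap_isPrime _ _, bot_le⟩ hle)
  obtain ⟨s, hsQ, hsg⟩ := H Q g hg
  rw [hcomap] at hsg
  obtain ⟨i', hi', w, hw, hiw⟩ := Submodule.mem_sup.mp hsg
  -- kill `w` by an element of `A ∖ p`
  have hkill : ∀ w ∈ p.map (algebraMap A B), ∃ s' : A, s' ∉ p ∧ algebraMap A B s' * w = 0 := by
    intro w hw
    refine Submodule.span_induction (p := fun w _ => ∃ s' : A, s' ∉ p ∧ algebraMap A B s' * w = 0)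
      ?_ ?_ ?_ ?_ hw
    · rintro _ ⟨a, ha, rfl⟩
      obtain ⟨s', hs', hsa⟩ := exists_mul_eq_zero_of_mem_minimalPrimes hp ha
      exact ⟨s', hs', by rw [← map_mul, hsa, map_zero]⟩
    · exact ⟨1, fun h => (Ideal.IsPrime.ne_top inferInstance) ((Ideal.eq_top_iff_one p).mpr h),
        mul_zero _⟩
    · rintro x y _ _ ⟨s₁, hs₁, e₁⟩ ⟨s₂, hs₂, e₂⟩
      refine ⟨s₁ * s₂, fun h => (Ideal.IsPrime.mem_or_mem inferInstance h).elim hs₁ hs₂, ?_⟩
      rw [map_mul, mul_add, mul_right_comm, e₁, zero_mul, mul_assoc, e₂, mul_zero, add_zero]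
    · rintro c x _ ⟨s₁, hs₁, e₁⟩
      refine ⟨s₁, hs₁, ?_⟩
      rw [smul_eq_mul, mul_left_comm, e₁, mul_zero]
  obtain ⟨s', hs'p, hs'w⟩ := hkill w hw
  have h1 : algebraMap A B s' * s ∈ 𝔟 := by
    rw [hmem, mul_assoc, ← hiw, mul_add, hs'w, add_zero]
    exact Ideal.mul_mem_left _ _ hi'
  rcases Ideal.IsPrime.mem_or_mem hQprime (h𝔟Q h1) with h2 | h2
  · exact hnotin s' hs'p h2
  · exact hsQ h2

end main

end Groth.Agent.Lib27.ReducedFibre
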