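import Mathlib
import Groth.Agent.Lib27.Sch.LocalCore
import Groth.Agent.Lib27.Flat.InjFlatOpen
import Groth.Agent.Lib.Helper18.FlI

/-!
# Slicing a flat finitely presented algebra by a fibrewise nonzerodivisor (helper27)

`A → B` of finite presentation, `q` a prime of `B` with `B_q` flat over `A`, and `h ∈ B` which is a
nonzerodivisor on the local ring of the fibre `B_q / p B_q`.  Then after inverting some `a ∉ q`,
`h` is a nonzerodivisor of `B_a` and `B_a / h B_a` is flat over `A`.
-/

set_option autoImplicit false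

namespace Groth.Agent.Lib27.SliceNZD

open Function

universe u

section quot

variable {B : Type u} [CommRing B] (T : Submonoid B) (BT : Type u) [CommRing BT] [Algebra B BT]
  [IsLocalization T BT] (h : B)

/-- localization of `B ⧸ (h)`. -/
noncomputable def quotEquiv :
    LocalizedModule T (B ⧸ (Ideal.span {h} : Ideal B)) ≃ₗ[B]
      BT ⧸ (Ideal.span {algebraMap B BT h} : Ideal BT) := by
  have h1 : (Ideal.span {h} : Submodule B B).localized' BT T (Algebra.linearMap B BT) =
      Ideal.span {algebraMap B BT h} := by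
    rw [Ideal.span, Submodule.localized'_span, Set.image_singleton]
    rfl
  exact (IsLocalizedModule.iso T
    ((Ideal.span {h} : Submodule B B).toLocalizedQuotient' BT T (Algebra.linearMap B BT))) ≪≫ₗ
      (Submodule.quotEquivOfEq _ _ h1).restrictScalars B

end quot

variable {A B : Type u} [CommRing A] [CommRing B] [Algebra A B] [Algebra.FinitePresentation A B]
  (q : Ideal B) [q.IsPrime] (Bq : Type u) [CommRing Bq] [Algebra B Bq] [Algebra A Bq]
  [IsScalarTower A B Bq] [IsLocalization.AtPrime Bq q]

theorem exists_slice [Module.Flat A Bq] (h : B)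
    (hreg : ∀ z : Bq, algebraMap B Bq h * z ∈ LocalCore.fibIdeal (A := A) q Bq →
      z ∈ LocalCore.fibIdeal (A := A) q Bq) :
    ∃ a : B, a ∉ q ∧ ∀ (Ba : Type u) [CommRing Ba] [Algebra B Ba] [Algebra A Ba]
      [IsScalarTower A B Ba] [IsLocalization.Away a Ba],
      algebraMap B Ba h ∈ nonZeroDivisors Ba ∧
        Module.Flat A (Ba ⧸ (Ideal.span {algebraMap B Ba h} : Ideal Ba)) := by
  classical
  set hq := algebraMap B Bq h with hhq
  let uq : Bq →ₗ[Bq] Bq := LinearMap.toSpanSingleton Bq Bq hq
  have huq : ∀ x : Bq, uq x ∈ (LocalCore.fibIdeal (A := A) q Bq) • (⊤ : Submodule Bq Bq) →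
      x ∈ (LocalCore.fibIdeal (A := A) q Bq) • (⊤ : Submodule Bq Bq) := by
    intro x hx
    rw [smul_eq_mul, Ideal.mul_top] at hx ⊢
    apply hreg
    have : uq x = hq * x := by
      change x • hq = _
      rw [smul_eq_mul, mul_comm]
    rwa [this] at hx
  obtain ⟨hinj, hfl⟩ := LocalCore.fibInj (A := A) q Bq uq huq
  let ū : B →ₗ[B] B := LinearMap.toSpanSingleton B B h
  have hū : ∀ b, ū b = b * h := fun b => rfl
  have hrange : LinearMap.range ū = (Ideal.span {h} : Ideal B) :=
    (LinearMap.span_singleton_eq_range B B h).symm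
  have hrangeq : LinearMap.range uq = (Ideal.span {hq} : Ideal Bq) :=
    (LinearMap.span_singleton_eq_range Bq Bq hq).symm
  -- the point `q` is in the open locus
  have hqs : (⟨q, inferInstance⟩ : PrimeSpectrum B) ∉ Module.support B (LinearMap.ker ū) := by
    rw [Module.notMem_support_iff']
    rintro ⟨m, hm⟩
    have hm' : m * h = 0 := hm
    have h0 : algebraMap B Bq m = 0 := by
      apply hinj
      rw [map_zero]
      change algebraMap B Bq m • hq = 0
      rw [smul_eq_mul, hhq, ← map_mul, hm', map_zero]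
    obtain ⟨r, hr⟩ := (IsLocalization.map_eq_zero_iff q.primeCompl Bq m).mp h0
    refine ⟨r, r.2, Subtype.ext ?_⟩
    simpa using hr
  have hqf : Module.Flat A (LocalizedModule q.primeCompl (B ⧸ LinearMap.range ū)) := by
    rw [hrange]
    rw [hrangeq] at hfl
    exact Module.Flat.of_linearEquiv ((quotEquiv q.primeCompl Bq h).restrictScalars A)
  obtain ⟨_, ⟨a, rfl⟩, haq, hasub⟩ :=
    PrimeSpectrum.isTopologicalBasis_basic_opens.exists_subset_of_mem_open
      (show (⟨q, inferInstance⟩ : PrimeSpectrum B) ∈ {Q : PrimeSpectrum B |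
        Q ∉ Module.support B (LinearMap.ker ū) ∧
        Module.Flat A (LocalizedModule Q.asIdeal.primeCompl (B ⧸ LinearMap.range ū))} from
        ⟨hqs, hqf⟩)
      (InjFlatOpen.isOpen_injFlatLocus (A := A) ū)
  have hflg : Module.Flat A (LocalizedModule (Submonoid.powers a) (B ⧸ LinearMap.range ū)) := by
    rw [Groth.Agent.Lib.Helper18.Fl.flat_localizedModule_iff_forall_prime (A := A)
      (Submonoid.powers a)]
    intro Q _ hdisj
    have haQ : a ∉ Q := fun hg => Set.disjoint_left.mp hdisj hg (Submonoid.mem_powers a)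
    exact (hasub (show (⟨Q, inferInstance⟩ : PrimeSpectrum B) ∈ PrimeSpectrum.basicOpen a
      from haQ)).2
  refine ⟨a, haq, ?_⟩
  intro Ba _ _ _ _ _
  constructor
  · rw [mem_nonZeroDivisors_iff_right]
    intro z hz
    obtain ⟨⟨b, s⟩, hbs⟩ := IsLocalization.surj (Submonoid.powers a) z
    have h0 : algebraMap B Ba (b * h) = 0 := by
      rw [map_mul, ← hbs, mul_right_comm, hz, zero_mul]
    obtain ⟨⟨_, k, rfl⟩, hk⟩ := (IsLocalization.map_eq_zero_iff (Submonoid.powers a) Ba _).mp h0
    have hb' : a ^ k * b ∈ LinearMap.ker ū := by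
      rw [LinearMap.mem_ker, hū, mul_assoc]
      exact hk
    set I : Ideal B := LinearMap.ker (LinearMap.toSpanSingleton B B (a ^ k * b)) with hI
    have hImem : ∀ c, c ∈ I ↔ c * (a ^ k * b) = 0 := fun c => by
      rw [hI, LinearMap.mem_ker, LinearMap.toSpanSingleton_apply, smul_eq_mul]
    have hrad : a ∈ I.radical := by
      rw [Ideal.radical_eq_sInf, Ideal.mem_sInf]
      rintro J ⟨hIJ, hJ⟩
      by_contra haJ
      haveI := hJ
      have hJs := (hasub (show (⟨J, inferInstance⟩ : PrimeSpectrum B) ∈ PrimeSpectrum.basicOpen a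
        from haJ)).1
      rw [Module.notMem_support_iff'] at hJs
      obtain ⟨r, hr, hr0⟩ := hJs ⟨a ^ k * b, hb'⟩
      have hr0' : r * (a ^ k * b) = 0 := by
        have := congrArg Subtype.val hr0
        simpa using this
      exact hr (hIJ ((hImem r).mpr hr0'))
    obtain ⟨n, hn⟩ := hrad
    rw [hImem] at hn
    have hb0 : algebraMap B Ba b = 0 := by
      rw [IsLocalization.map_eq_zero_iff (Submonoid.powers a) Ba b]
      refine ⟨⟨a ^ (n + k), n + k, rfl⟩, ?_⟩
      change a ^ (n + k) * b = 0
      rw [pow_add, mul_assoc]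
      exact hn
    rw [hb0] at hbs
    exact (IsLocalization.map_units Ba s).mul_left_eq_zero.mp hbs
  · rw [hrange] at hflg
    exact Module.Flat.of_linearEquiv ((quotEquiv (Submonoid.powers a) Ba h).restrictScalars A).symm

end Groth.Agent.Lib27.SliceNZD
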