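import Mathlib
import Groth.Agent.Lib.Helper9.ValSat

/-!
# Torsion-free modules over a valuation ring inside local rings of finite type algebras
-/

set_option autoImplicit false
set_option linter.style.haveILetI false
set_option linter.unusedSectionVars false

open Function

universe u

namespace Groth.Agent.Lib27.ValTF

/-- over a Bézout domain, a module embedding into a flat module is flat. -/
theorem flat_of_injective {V : Type*} [CommRing V] [IsDomain V] [IsBezout V]
    {K N : Type*} [AddCommGroup K] [Module V K] [AddCommGroup N] [Module V N]
    (u : K →ₗ[V] N) (hu : Injective u) [Module.Flat V N] : Module.Flat V K := by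
  rw [Module.Flat.flat_iff_torsion_eq_bot_of_isBezout, eq_bot_iff]
  rintro x ⟨⟨r, hr⟩, h⟩
  have h1 : r • u x = 0 := by
    rw [← map_smul]
    have : r • x = 0 := h
    rw [this, map_zero]
  have hx : u x = 0 :=
    Module.Flat.isSMulRegular_of_nonZeroDivisors (M := N) hr (by simpa using h1)
  exact hu (hx.trans (map_zero u).symm)

/-- a finite module over a local ring of a finite type algebra over a valuation ring `V`
embedding `V`-linearly into a `V`-flat module is finitely presented and `V`-flat. -/
theorem finitePresentation_of_injective {V : Type u} [CommRing V] [IsDomain V] [ValuationRing V]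
    (A : Type u) [CommRing A] [Algebra V A] [Algebra.EssFiniteType V A]
    {K N : Type u} [AddCommGroup K] [Module A K] [Module V K] [IsScalarTower V A K]
    [Module.Finite A K] [AddCommGroup N] [Module V N] [Module.Flat V N]
    (u : K →ₗ[V] N) (hu : Injective u) :
    Module.FinitePresentation A K ∧ Module.Flat V K := by
  haveI := flat_of_injective u hu
  exact ⟨Groth.Agent.Lib.Helper9.ValSat.finitePresentation_of_flat V A K, inferInstance⟩

end Groth.Agent.Lib27.ValTF
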