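import Mathlib
import Groth.Agent.Lib27.Flat.ValTF

/-!
# Duals of finitely presented modules over local rings of finite type algebras over a
valuation ring
-/

set_option autoImplicit false
set_option linter.style.haveILetI false
set_option linter.unusedSectionVars false

open Function

universe u

namespace Groth.Agent.Lib27.ValDual

variable (V : Type u) [CommRing V] [IsDomain V] [ValuationRing V]
  (A : Type u) [CommRing A] [Algebra V A] [Algebra.EssFiniteType V A]

/-- a finite `A`-module without `V`-torsion is finitely presented and `V`-flat. -/
theorem fp_of_torsionFree {K : Type u} [AddCommGroup K] [Module A K] [Module V K]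
    [IsScalarTower V A K] [Module.Finite A K]
    (htf : ∀ (v : V) (x : K), v ≠ 0 → v • x = 0 → x = 0) :
    Module.FinitePresentation A K ∧ Module.Flat V K := by
  haveI : Module.Flat V K := by
    rw [Module.Flat.flat_iff_torsion_eq_bot_of_isBezout, eq_bot_iff]
    rintro x ⟨⟨r, hr⟩, h⟩
    exact htf r x (nonZeroDivisors.ne_zero hr) h
  exact ⟨Groth.Agent.Lib.Helper9.ValSat.finitePresentation_of_flat V A K, inferInstance⟩

variable [Module.Flat V A]

omit [ValuationRing V] [Algebra.EssFiniteType V A] in
/-- functionals with values in `A` have no `V`-torsion. -/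
lemma dual_torsionFree {X : Type u} [AddCommGroup X] [Module A X] (v : V) (φ : Module.Dual A X)
    (hv : v ≠ 0) (h : v • φ = 0) : φ = 0 := by
  apply LinearMap.ext
  intro x
  have h1 : v • φ x = 0 := by
    have := congrArg (fun ψ : Module.Dual A X => ψ x) h
    simpa using this
  exact Groth.Agent.Lib.Helper9.ValSat.eq_zero_of_smul_eq_zero v hv (φ x) h1

include V in
/-- the dual of a finitely presented module is a finite module. -/
theorem finite_dual (M : Type u) [AddCommGroup M] [Module A M] [Module.FinitePresentation A M] :
    Module.Finite A (Module.Dual A M) := by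
  classical
  obtain ⟨r, π, hπ⟩ := Module.Finite.exists_fin' A M
  have hK : (LinearMap.ker π).FG := Module.FinitePresentation.fg_ker π hπ
  obtain ⟨s, κ, hκ⟩ := (LinearMap.ker π).fg_iff_exists_fin_linearMap.mp hK
  have hπinj : Injective π.dualMap := LinearMap.dualMap_injective_of_surjective hπ
  have hrange : LinearMap.range π.dualMap = LinearMap.ker κ.dualMap := by
    rw [LinearMap.range_dualMap_eq_dualAnnihilator_ker_of_surjective π hπ,
      LinearMap.ker_dualMap_eq_dualAnnihilator_range, hκ]
  -- the range of `κ*` is finitely presented
  haveI : Module.Finite A (LinearMap.range κ.dualMap) := Module.Finite.range _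
  have hfp := fp_of_torsionFree V A (K := LinearMap.range κ.dualMap) (by
    intro v x hv hx
    apply Subtype.ext
    have := congrArg Subtype.val hx
    exact dual_torsionFree V A v x.1 hv (by simpa using this))
  haveI := hfp.1
  haveI : Module.Finite A (Module.Dual A (Fin r → A)) := inferInstance
  have hkerfg : (LinearMap.ker κ.dualMap.rangeRestrict).FG :=
    Module.FinitePresentation.fg_ker (R := A) (M := Module.Dual A (Fin r → A))
      (N := LinearMap.range κ.dualMap) κ.dualMap.rangeRestrict
      κ.dualMap.surjective_rangeRestrict
  rw [LinearMap.ker_rangeRestrict, ← hrange] at hkerfg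
  haveI : Module.Finite A (LinearMap.range π.dualMap) := Module.Finite.of_fg hkerfg
  exact Module.Finite.equiv (LinearEquiv.ofInjective π.dualMap hπinj).symm

/-- a finitely presented reflexive module is the kernel of a surjection from a finite free
module onto a finitely presented `V`-flat module. -/
theorem exists_embedding_of_isReflexive (M : Type u) [AddCommGroup M] [Module A M]
    [Module.FinitePresentation A M] [Module.IsReflexive A M] :
    ∃ (a : ℕ) (j : M →ₗ[A] Module.Dual A (Fin a → A)), Injective j ∧
      Module.FinitePresentation A (Module.Dual A (Fin a → A) ⧸ LinearMap.range j) ∧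
      Module.Flat V (Module.Dual A (Fin a → A) ⧸ LinearMap.range j) := by
  classical
  haveI := finite_dual V A M
  obtain ⟨a, p, hp⟩ := Module.Finite.exists_fin' A (Module.Dual A M)
  let j : M →ₗ[A] Module.Dual A (Fin a → A) := p.dualMap ∘ₗ (Module.evalEquiv A M).toLinearMap
  have hj : Injective j :=
    (LinearMap.dualMap_injective_of_surjective hp).comp (Module.evalEquiv A M).injective
  have hrange : LinearMap.range j = (LinearMap.ker p).dualAnnihilator := by
    rw [LinearMap.range_comp, LinearEquiv.range, Submodule.map_top,
      LinearMap.range_dualMap_eq_dualAnnihilator_ker_of_surjective p hp]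
  have hfp := fp_of_torsionFree V A
    (K := Module.Dual A (Fin a → A) ⧸ LinearMap.range j) (by
    intro v x hv hx
    obtain ⟨φ, rfl⟩ := Submodule.Quotient.mk_surjective _ x
    rw [← Submodule.Quotient.mk_smul, Submodule.Quotient.mk_eq_zero, hrange,
      Submodule.mem_dualAnnihilator] at hx
    rw [Submodule.Quotient.mk_eq_zero, hrange, Submodule.mem_dualAnnihilator]
    intro w hw
    have h1 : v • φ w = 0 := by
      have := hx w hw
      simpa using this
    exact Groth.Agent.Lib.Helper9.ValSat.eq_zero_of_smul_eq_zero v hv (φ w) h1)
  exact ⟨a, j, hj, hfp.1, hfp.2⟩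

end Groth.Agent.Lib27.ValDual
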